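import Cfsg.Agent.Lib.KnownA.MinDeg.Eigen
import Cfsg.Agent.Lib.Chevalley.Data.G2Comm
import Cfsg.Agent.Lib.Chevalley.BN
import Cfsg.Agent.Lib.Chevalley.Roots
import Cfsg.Agent.Lib.Chevalley.RootGen

/-!
Root elements of G₂ in a complex representation: weight spaces of lists of roots, and the effect of root
elements, reflections and torus elements on them.
-/

set_option autoImplicit false
set_option maxRecDepth 20000
set_option linter.unusedSectionVars false

noncomputable section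

namespace CfsgLib.KnownB.MinDegG2

open CfsgLib.Chevalley CfsgLib.Chevalley.Tbl CfsgLib.KnownA.MinDeg
open Module (finrank)

local notation "TG" => Data.G2.tbl
local notation "hG" => Data.G2.valid

theorem nG : (TG).n = 12 := by decide +kernel

theorem rankG : (TG).rank = 2 := by decide +kernel

variable (F : Type*) [Field F]

/-- The group. -/
abbrev Gd : Type _ := ↥((Data.G2.tbl).datum.group F)

variable {F}

open Classical in
/-- The root elements. -/
def xr (r : ℕ) : AddChar F (Gd F) :=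
  if h : r < 12 then
    { toFun := fun t => ⟨(TG).xU F r t, xU_mem_group hG (nG ▸ h) t⟩
      map_zero_eq_one' := Subtype.ext (xU_zero hG (nG ▸ h))
      map_add_eq_mul' := fun a b => Subtype.ext (xU_add hG (nG ▸ h) a b).symm }
  else 1

theorem xr_val {r : ℕ} (hr : r < 12) (t : F) :
    ((xr r t : Gd F) : GL (TG).I F) = (TG).xU F r t := by
  rw [xr, dif_pos hr]; rfl

theorem xr_prod {ι : Type*} (f : ι → ℕ) (g : ι → F) :
    ∀ L : List ι, (∀ c ∈ L, f c < 12) → (((L.map fun c => xr (f c) (g c)).prod : Gd F) : GL (TG).I F) =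
      (L.map fun c => (TG).xU F (f c) (g c)).prod
  | [], _ => rfl
  | a :: L, h => by
    rw [List.map_cons, List.map_cons, List.prod_cons, List.prod_cons, Subgroup.coe_mul,
      xr_val (h a List.mem_cons_self), xr_prod f g L fun c hc => h c (List.mem_cons_of_mem _ hc)]

/-- The commutator formula. -/
theorem xr_comm {r s : ℕ} (hr : r < 12) (hs : s < 12) (hne : s ≠ r) (hn : s ≠ (TG).neg r) (t u : F) :
    xr s u * xr r t = xr r t * xr s u * (((TG).commT r s).map fun c =>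
      xr c.1 ((c.2.1 : F) * (-t) ^ c.2.2.1 * u ^ c.2.2.2)).prod := by
  refine Subtype.ext ?_
  rw [Subgroup.coe_mul, Subgroup.coe_mul, Subgroup.coe_mul, xr_prod _ _ _ fun c hc =>
    nG ▸ commT_lt hG (nG ▸ hr) (nG ▸ hs) c hc, xr_val hr, xr_val hs]
  exact comm_xU hG Data.G2.chkComm (nG ▸ hr) (nG ▸ hs) hne hn t u

variable {V : Type*} [AddCommGroup V] [Module ℂ V]
variable {ρ : Representation ℂ (Gd F) V} {ψ : AddChar F ℂ}

theorem act_mul (a b : Gd F) (v : V) : ρ a (ρ b v) = ρ (a * b) v := by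
  rw [map_mul, Module.End.mul_apply]

theorem prod_act {ι : Type*} (f : ι → Gd F) (c : ι → ℂ) (v : V) :
    ∀ L : List ι, (∀ i ∈ L, ρ (f i) v = c i • v) → ρ (L.map f).prod v = (L.map c).prod • v
  | [], _ => by simp
  | a :: L, h => by
    rw [List.map_cons, List.prod_cons, ← act_mul, prod_act f c v L fun i hi => h i (List.mem_cons_of_mem _ hi),
      map_smul, h a List.mem_cons_self, smul_smul, List.map_cons, List.prod_cons, mul_comm]

theorem prod_psi {ι : Type*} (f : ι → F) : ∀ L : List ι, (L.map fun i => ψ (f i)).prod = ψ (L.map f).sum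
  | [] => by simp
  | a :: L => by rw [List.map_cons, List.prod_cons, prod_psi f L, List.map_cons, List.sum_cons,
      AddChar.map_add_eq_mul]

/-- Moving a root element past another on a vector which is an eigenvector for the terms. -/
theorem act_comm {r s : ℕ} (hr : r < 12) (hs : s < 12) (hn : s ≠ (TG).neg r) (t u : F) {v : V}
    (L : ℕ → F)
    (h : ∀ c ∈ (TG).commT r s, (c.2.1 : F) = 0 ∨ v ∈ eig ρ ψ (xr c.1) (L c.1)) :
    ρ (xr s u) (ρ (xr r t) v) =
      ψ (((TG).commT r s).map fun c => L c.1 * ((c.2.1 : F) * (-t) ^ c.2.2.1 * u ^ c.2.2.2)).sum •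
        ρ (xr r t) (ρ (xr s u) v) := by
  by_cases hne : s = r
  · subst hne
    have k : ∀ r < 12, (TG).commT r r = [] := by decide +kernel
    rw [k s hs, List.map_nil, List.sum_nil, AddChar.map_zero_eq_one, one_smul, act_mul, act_mul,
      ← AddChar.map_add_eq_mul, ← AddChar.map_add_eq_mul, add_comm]
  rw [act_mul, xr_comm hr hs hne hn, ← act_mul, ← act_mul,
    prod_act (ρ := ρ) _ (fun c : ℕ × ℤ × ℕ × ℕ => ψ (L c.1 * ((c.2.1 : F) * (-t) ^ c.2.2.1 * u ^ c.2.2.2)))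
      v _ fun c hc => ?_,
    prod_psi, map_smul, map_smul]
  rcases h c hc with h0 | h0
  · simp [h0]
  · exact h0 _

/-- A root element shifts an eigenvalue. -/
theorem shift {r s : ℕ} (hr : r < 12) (hs : s < 12) (hn : s ≠ (TG).neg r) (t : F) {v : V} (L : ℕ → F)
    (h : ∀ c ∈ (TG).commT r s, (c.2.1 : F) = 0 ∨ v ∈ eig ρ ψ (xr c.1) (L c.1)) {a β : F}
    (hv : v ∈ eig ρ ψ (xr s) a)
    (hsum : ∀ u : F,
      (((TG).commT r s).map fun c => L c.1 * ((c.2.1 : F) * (-t) ^ c.2.2.1 * u ^ c.2.2.2)).sum = β * u) :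
    ρ (xr r t) v ∈ eig ρ ψ (xr s) (a + β) := fun u => by
  rw [act_comm hr hs hn t u L h, hsum, hv u, map_smul, smul_smul, ← AddChar.map_add_eq_mul]
  congr 2
  ring

/-- The terms of a commutator lie in a list or vanish modulo `p`. -/
def okc (p : ℕ) (Z : List ℕ) (r s : ℕ) : Bool :=
  decide (r < 12 ∧ s < 12 ∧ s ≠ Data.G2.tbl.neg r) &&
    ((Data.G2.tbl.commT r s).all fun c => decide (c.1 ∈ Z) || decide (((p : ℤ)) ∣ c.2.1))

theorem keep {p : ℕ} (hp : (p : F) = 0) {Z : List ℕ} {r s : ℕ} (h : okc p Z r s = true) {t : F} {v : V}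
    (hZ : ∀ z ∈ Z, v ∈ eig ρ ψ (xr z) 0) {a : F} (hv : v ∈ eig ρ ψ (xr s) a) :
    ρ (xr r t) v ∈ eig ρ ψ (xr s) a := by
  simp only [okc, Bool.and_eq_true, decide_eq_true_eq, List.all_eq_true, Bool.or_eq_true] at h
  obtain ⟨⟨hr, hs, hn⟩, hZ'⟩ := h
  have := shift (β := 0) hr hs hn t (fun _ => 0) (fun c hc => ?_) hv (fun u => by simp)
  · rwa [add_zero] at this
  rcases hZ' c hc with h1 | h1
  · exact Or.inr (hZ _ h1)
  · obtain ⟨k, hk⟩ := h1
    exact Or.inl (by rw [hk, Int.cast_mul, Int.cast_natCast, hp, zero_mul])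

/-! ### Weight spaces -/

variable (ρ ψ)

/-- The vectors fixed by the roots of `Z` with the prescribed eigenvalues at the roots of `L`. -/
def wt (Z : List ℕ) (L : List (ℕ × F)) : Submodule ℂ V where
  carrier := {v | (∀ z ∈ Z, v ∈ eig ρ ψ (xr z) 0) ∧ ∀ p ∈ L, v ∈ eig ρ ψ (xr p.1) p.2}
  add_mem' := fun {u v} hu hv => ⟨fun z hz => add_mem (hu.1 z hz) (hv.1 z hz),
    fun p hp => add_mem (hu.2 p hp) (hv.2 p hp)⟩
  zero_mem' := ⟨fun z _ => zero_mem _, fun p _ => zero_mem _⟩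
  smul_mem' := fun c v hv => ⟨fun z hz => Submodule.smul_mem _ c (hv.1 z hz),
    fun p hp => Submodule.smul_mem _ c (hv.2 p hp)⟩

variable {ρ ψ}

theorem mem_wt {Z : List ℕ} {L : List (ℕ × F)} {v : V} :
    v ∈ wt ρ ψ Z L ↔ (∀ z ∈ Z, v ∈ eig ρ ψ (xr z) 0) ∧ ∀ p ∈ L, v ∈ eig ρ ψ (xr p.1) p.2 := Iff.rfl

theorem wt_Z {Z : List ℕ} {L : List (ℕ × F)} {v : V} (h : v ∈ wt ρ ψ Z L) {z : ℕ} (hz : z ∈ Z) :
    v ∈ eig ρ ψ (xr z) 0 := h.1 z hz

theorem wt_L {Z : List ℕ} {L : List (ℕ × F)} {v : V} (h : v ∈ wt ρ ψ Z L) {s : ℕ} {a : F}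
    (hp : (s, a) ∈ L) : v ∈ eig ρ ψ (xr s) a := h.2 (s, a) hp

theorem wt_zero_cons {Z : List ℕ} {L : List (ℕ × F)} {s : ℕ} :
    wt ρ ψ Z ((s, 0) :: L) = wt ρ ψ (s :: Z) L := by
  ext v
  simp only [mem_wt, List.forall_mem_cons]
  tauto

theorem wt_cons {Z : List ℕ} {L : List (ℕ × F)} {s : ℕ} {a : F} :
    wt ρ ψ Z ((s, a) :: L) = wt ρ ψ Z L ⊓ eig ρ ψ (xr s) a := by
  ext v
  simp only [Submodule.mem_inf, mem_wt, List.forall_mem_cons]
  tauto

theorem wt_mono {Z Z' : List ℕ} {L L' : List (ℕ × F)} (hZ : ∀ z ∈ Z', z ∈ Z) (hL : ∀ p ∈ L', p ∈ L) :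
    wt ρ ψ Z L ≤ wt ρ ψ Z' L' := fun _ hv => ⟨fun z hz => hv.1 z (hZ z hz), fun p hp => hv.2 p (hL p hp)⟩

/-- The root element preserves the weight space. -/
def pres (p : ℕ) (Z : List ℕ) (ks : List ℕ) (r : ℕ) : Bool := (Z ++ ks).all (okc p Z r)

theorem pres_mem {p : ℕ} (hp : (p : F) = 0) {Z ks : List ℕ} {L : List (ℕ × F)} {r : ℕ}
    (h : pres p Z ks r = true) (hks : L.map Prod.fst = ks) {v : V} (hv : v ∈ wt ρ ψ Z L) (t : F) :
    ρ (xr r t) v ∈ wt ρ ψ Z L := by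
  simp only [pres, List.all_eq_true, List.mem_append] at h
  subst hks
  exact ⟨fun z hz => keep hp (h z (Or.inl hz)) hv.1 (hv.1 z hz),
    fun q hq => keep hp (h q.1 (Or.inr (List.mem_map_of_mem hq))) hv.1 (hv.2 q hq)⟩

/-- Every vector of a weight line has the same eigenvalues. -/
theorem eig_unique (hψ : ψ.IsPrimitive) {x : AddChar F (Gd F)} {a b : F} {v : V} (hv : v ≠ 0)
    (ha : v ∈ eig ρ ψ x a) (hb : v ∈ eig ρ ψ x b) : a = b := by
  by_contra hab
  refine hψ (sub_ne_zero.2 hab) (DFunLike.ext _ _ fun t => ?_)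
  have h : ψ (a * t) = ψ (b * t) := smul_left_injective ℂ hv ((ha t).symm.trans (hb t))
  rw [AddChar.mulShift_apply, AddChar.one_apply, sub_mul, AddChar.map_sub_eq_div, h,
    div_self (ψ.val_isUnit _).ne_zero]

variable [Fintype F] [FiniteDimensional ℂ V]

theorem card_erase [DecidableEq F] :
    ((Finset.univ : Finset F).erase 0).card = Fintype.card F - 1 := by
  rw [Finset.card_erase_of_mem (Finset.mem_univ _), Finset.card_univ]

theorem stable_of_pres {p : ℕ} (hp : (p : F) = 0) {Z ks : List ℕ} {L : List (ℕ × F)} {s : ℕ}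
    (h : pres p Z ks s = true) (hks : L.map Prod.fst = ks) : Stable ρ (xr s) (wt ρ ψ Z L) :=
  fun t _ hv => pres_mem hp h hks hv t

/-- Splitting a weight space along a root. -/
theorem split (hψ : ψ.IsPrimitive) [DecidableEq F] {p : ℕ} (hp : (p : F) = 0) {Z ks : List ℕ}
    {L : List (ℕ × F)} (s : ℕ) (h : pres p Z ks s = true) (hks : L.map Prod.fst = ks) :
    finrank ℂ (wt ρ ψ Z L) = finrank ℂ (wt ρ ψ (s :: Z) L) +
      ∑ a ∈ (Finset.univ : Finset F).erase 0, finrank ℂ (wt ρ ψ Z ((s, a) :: L)) := by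
  rw [finrank_eq_sum hψ (stable_of_pres hp h hks),
    ← Finset.add_sum_erase Finset.univ _ (Finset.mem_univ (0 : F)), ← wt_cons, wt_zero_cons]
  exact congrArg _ (Finset.sum_congr rfl fun a _ => by rw [wt_cons])

/-- Splitting when the nonzero parts are alike. -/
theorem split_const (hψ : ψ.IsPrimitive) {p : ℕ} (hp : (p : F) = 0) {Z ks : List ℕ}
    {L : List (ℕ × F)} (s : ℕ) (h : pres p Z ks s = true) (hks : L.map Prod.fst = ks) {e : ℕ}
    (he : ∀ a : F, a ≠ 0 → finrank ℂ (wt ρ ψ Z ((s, a) :: L)) = e) :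
    finrank ℂ (wt ρ ψ Z L) = finrank ℂ (wt ρ ψ (s :: Z) L) + (Fintype.card F - 1) * e := by
  classical
  rw [split hψ hp s h hks, Finset.sum_congr rfl fun a ha => he a (Finset.ne_of_mem_erase ha),
    Finset.sum_const, card_erase, smul_eq_mul]

/-- Splitting into parts that are moved into each other. -/
theorem split_trans (hψ : ψ.IsPrimitive) {p : ℕ} (hp : (p : F) = 0) {Z ks : List ℕ}
    {L : List (ℕ × F)} (s : ℕ) (h : pres p Z ks s = true) (hks : L.map Prod.fst = ks)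
    (htr : ∀ a b : F, ∃ g, ∀ v ∈ wt ρ ψ Z ((s, a) :: L), ρ g v ∈ wt ρ ψ Z ((s, b) :: L)) (a : F) :
    finrank ℂ (wt ρ ψ Z L) = Fintype.card F * finrank ℂ (wt ρ ψ Z ((s, a) :: L)) := by
  classical
  have e : ∀ b, finrank ℂ (wt ρ ψ Z ((s, b) :: L)) = finrank ℂ (wt ρ ψ Z ((s, a) :: L)) := fun b => by
    obtain ⟨g, hg⟩ := htr b a
    obtain ⟨g', hg'⟩ := htr a b
    exact le_antisymm (finrank_le_of_map g hg) (finrank_le_of_map g' hg')
  rw [finrank_eq_sum hψ (stable_of_pres hp h hks)]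
  rw [Finset.sum_congr rfl fun b _ => (by rw [← e b, wt_cons] :
      finrank ℂ ↥(wt ρ ψ Z L ⊓ eig ρ ψ (xr s) b) = finrank ℂ (wt ρ ψ Z ((s, a) :: L))), Finset.sum_const, Finset.card_univ, smul_eq_mul]

/-! ### Reflections and torus elements -/

open Classical in
/-- The reflection of a simple root. -/
def nG' (F : Type*) [Field F] (i : ℕ) : Gd F :=
  if h : i < 2 then ⟨(TG).nU F ((TG).simple i) 1, nU_mem_group hG (simple_lt hG (rankG ▸ h)) _⟩ else 1

theorem simple_eq : (TG).simple 0 = 7 ∧ (TG).simple 1 = 6 := by decide +kernel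

theorem refl_spec : ∀ i < 2, ∀ r < 12, (TG).refl i r < 12 ∧ (TG).refl i ((TG).refl i r) = r ∧
    ((TG).eta i r = 1 ∨ (TG).eta i r = -1) := by
  decide +kernel

theorem eta_ne {i r : ℕ} (hi : i < 2) (hr : r < 12) : (((TG).eta i r : ℤ) : F) ≠ 0 := by
  rcases (refl_spec i hi r hr).2.2 with h | h <;> rw [h] <;> simp

theorem nG_xr {i r : ℕ} (hi : i < 2) (hr : r < 12) (t : F) :
    xr ((TG).refl i r) (((TG).eta i r : F) * t) * nG' F i = nG' F i * xr r t := by
  refine Subtype.ext ?_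
  rw [Subgroup.coe_mul, Subgroup.coe_mul, xr_val hr, xr_val (refl_spec i hi r hr).1, nG', dif_pos hi]
  exact (nU_simple_xU hG (rankG ▸ hi) (nG ▸ hr) t).symm

theorem nG_eig {i r : ℕ} (hi : i < 2) (hr : r < 12) {a : F} {v : V} (hv : v ∈ eig ρ ψ (xr r) a) :
    ρ (nG' F i) v ∈ eig ρ ψ (xr ((TG).refl i r)) (a / ((TG).eta i r : F)) :=
  map_eig (eta_ne hi hr) (fun t => nG_xr hi hr t) hv

theorem nG_wt {i : ℕ} (hi : i < 2) {Z : List ℕ} {L : List (ℕ × F)} (hZ : (Z.all fun z => decide (z < 12)) = true)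
    (hL : ∀ p ∈ L, p.1 < 12) {v : V} (hv : v ∈ wt ρ ψ Z L) :
    ρ (nG' F i) v ∈ wt ρ ψ (Z.map ((TG).refl i))
      (L.map fun p => ((TG).refl i p.1, p.2 / ((TG).eta i p.1 : F))) := by
  simp only [List.all_eq_true, decide_eq_true_eq] at hZ
  refine ⟨List.forall_mem_map.2 fun z hz => ?_, List.forall_mem_map.2 fun p hp => nG_eig hi (hL p hp) (hv.2 p hp)⟩
  simpa using nG_eig hi (hZ z hz) (hv.1 z hz)

open Classical in
/-- A torus element. -/
def tor (d : ℕ) (c : Fˣ) : Gd F :=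
  if h : (TG).hU F d (c : F) ∈ (TG).datum.group F then ⟨_, h⟩ else 1

theorem tor_val {d : ℕ} (hd : d < 12) (c : Fˣ) :
    ((tor d c : Gd F) : GL (TG).I F) = (TG).dU ((TG).hCh d c) := by
  have hm : (TG).hU F d (c : F) ∈ (TG).datum.group F :=
    mul_mem (nU_mem_group hG (nG ▸ hd) _) (nU_mem_group hG (nG ▸ hd) _)
  rw [tor, dif_pos hm]
  exact hU_eq hG (nG ▸ hd) c

theorem tor_xr {d r : ℕ} (hd : d < 12) (hr : r < 12) (c : Fˣ) (t : F) :
    xr r (((c ^ (TG).pair d r : Fˣ) : F) * t) * tor d c = tor d c * xr r t := by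
  refine Subtype.ext ?_
  rw [Subgroup.coe_mul, Subgroup.coe_mul, xr_val hr, xr_val hr, tor_val hd]
  exact (dU_hCh_xU hG (nG ▸ hd) c (nG ▸ hr) t).symm

theorem tor_eig {d r : ℕ} (hd : d < 12) (hr : r < 12) (c : Fˣ) {a : F} {v : V}
    (hv : v ∈ eig ρ ψ (xr r) a) :
    ρ (tor d c) v ∈ eig ρ ψ (xr r) (a / ((c ^ (TG).pair d r : Fˣ) : F)) :=
  map_eig (Units.ne_zero _) (fun t => tor_xr hd hr c t) hv

theorem tor_wt {d : ℕ} (hd : d < 12) (c : Fˣ) {Z : List ℕ} {L : List (ℕ × F)}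
    (hZ : (Z.all fun z => decide (z < 12)) = true) (hL : ∀ p ∈ L, p.1 < 12) {v : V}
    (hv : v ∈ wt ρ ψ Z L) :
    ρ (tor d c) v ∈ wt ρ ψ Z (L.map fun p => (p.1, p.2 / ((c ^ (TG).pair d p.1 : Fˣ) : F))) := by
  simp only [List.all_eq_true, decide_eq_true_eq] at hZ
  exact ⟨fun z hz => by simpa using tor_eig hd (hZ z hz) c (hv.1 z hz),
    List.forall_mem_map.2 fun p hp => tor_eig hd (hL p hp) c (hv.2 p hp)⟩

/-- One eigenvalue may be any nonzero one. -/
theorem finrank_scale {d s : ℕ} (hds : decide (d < 12 ∧ s < 12 ∧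
      ((TG).pair d s = 1 ∨ (TG).pair d s = -1)) = true) {Z : List ℕ}
    (hZ : (Z.all fun z => decide (z < 12)) = true) {L : List (ℕ × F)}
    (hL : ∀ p ∈ L, p.1 < 12 ∧ (TG).pair d p.1 = 0) {a b : F} (ha : a ≠ 0) (hb : b ≠ 0) :
    finrank ℂ (wt ρ ψ Z ((s, a) :: L)) = finrank ℂ (wt ρ ψ Z ((s, b) :: L)) := by
  simp only [decide_eq_true_eq] at hds
  obtain ⟨hd, hs, hp⟩ := hds
  suffices h : ∀ a b : F, a ≠ 0 → b ≠ 0 →
      finrank ℂ (wt ρ ψ Z ((s, a) :: L)) ≤ finrank ℂ (wt ρ ψ Z ((s, b) :: L)) from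
    le_antisymm (h a b ha hb) (h b a hb ha)
  intro a b ha hb
  obtain ⟨c, hc⟩ : ∃ c : Fˣ, ((c ^ (TG).pair d s : Fˣ) : F) = a / b := by
    rcases hp with hp | hp
    · exact ⟨Units.mk0 _ (div_ne_zero ha hb), by rw [hp, zpow_one]; rfl⟩
    · exact ⟨(Units.mk0 _ (div_ne_zero ha hb))⁻¹, by rw [hp, _root_.zpow_neg_one, inv_inv]; rfl⟩
  refine finrank_le_of_map (ρ := ρ) (tor d c) fun v hv => ?_
  have h1 := tor_wt hd c hZ (L := (s, a) :: L) (List.forall_mem_cons.2 ⟨hs, fun p hp => (hL p hp).1⟩) hv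
  refine ⟨h1.1, List.forall_mem_cons.2 ⟨?_, fun p hp => ?_⟩⟩
  · have h2 := h1.2 _ (List.mem_map_of_mem (List.mem_cons_self))
    simpa only [hc, div_div_cancel₀ ha] using h2
  · have h2 := h1.2 _ (List.mem_map_of_mem (List.mem_cons_of_mem _ hp))
    simpa only [(hL p hp).2, zpow_zero, Units.val_one, div_one] using h2

end CfsgLib.KnownB.MinDegG2
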