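import Cfsg.Agent.Lib.KnownB.MinDegG2.Base
import Cfsg.Agent.S1055

/-!
The coarse decomposition of a representation of G₂ along the two highest long roots.
-/

set_option autoImplicit false
set_option maxRecDepth 20000
set_option linter.unusedSectionVars false

noncomputable section

namespace CfsgLib.KnownB.MinDegG2

open CfsgLib.Chevalley CfsgLib.Chevalley.Tbl CfsgLib.KnownA.MinDeg
open Module (finrank)

local notation "TG" => Data.G2.tbl

variable {F : Type*} [Field F] {V : Type*} [AddCommGroup V] [Module ℂ V]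
variable {ρ : Representation ℂ (Gd F) V} {ψ : AddChar F ℂ}

theorem wt_nil : wt ρ ψ [] [] = ⊤ := eq_top_iff.2 fun v _ => ⟨by simp, by simp⟩

theorem wt_swap {Z : List ℕ} {L : List (ℕ × F)} {p p' : ℕ × F} :
    wt ρ ψ Z (p :: p' :: L) = wt ρ ψ Z (p' :: p :: L) :=
  le_antisymm (wt_mono (fun _ h => h) (by simp +contextual)) (wt_mono (fun _ h => h) (by simp +contextual))

variable [Fintype F] [FiniteDimensional ℂ V]

/-- A reflection does not lower dimensions. -/
theorem finrank_nG {i : ℕ} (hi : i < 2) {Z Z' : List ℕ} {L L' : List (ℕ × F)}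
    (hZ : (Z.all fun z => decide (z < 12)) = true) (hL : ∀ p ∈ L, p.1 < 12)
    (hZ' : (Z'.all fun z => decide (z ∈ Z.map ((TG).refl i))) = true)
    (hL' : L' = L.map fun p => ((TG).refl i p.1, p.2 / ((TG).eta i p.1 : F))) :
    finrank ℂ (wt ρ ψ Z L) ≤ finrank ℂ (wt ρ ψ Z' L') := by
  subst hL'
  simp only [List.all_eq_true, decide_eq_true_eq] at hZ'
  exact finrank_le_of_map (ρ := ρ) (nG' F i) fun v hv => wt_mono hZ' (fun _ h => h) (nG_wt hi hZ hL hv)

theorem ct_6_10 : (TG).commT 6 10 = [(11, 1, 1, 1)] := by decide +kernel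

theorem eta_facts : (TG).refl 1 11 = 10 ∧ (TG).refl 1 10 = 11 := by decide +kernel

/-- The multiplicity of the two highest root pieces. -/
abbrev mw (ρ : Representation ℂ (Gd F) V) (ψ : AddChar F ℂ) : ℕ := finrank ℂ (wt ρ ψ [11] [(10, (1 : F))])

theorem scale_eleven {a b : F} (ha : a ≠ 0) (hb : b ≠ 0) :
    finrank ℂ (wt ρ ψ [] [(11, a)]) = finrank ℂ (wt ρ ψ [] [(11, b)]) :=
  finrank_scale (d := 6) (by decide +kernel) (by rfl) (by simp) ha hb

theorem scale_ten {a b : F} (ha : a ≠ 0) (hb : b ≠ 0) :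
    finrank ℂ (wt ρ ψ [11] [(10, a)]) = finrank ℂ (wt ρ ψ [11] [(10, b)]) :=
  finrank_scale (d := 11) (by decide +kernel) (by rfl) (by simp) ha hb

theorem ten_eq_eleven {l : F} (hl : l ≠ 0) :
    finrank ℂ (wt ρ ψ [] [(10, l)]) = finrank ℂ (wt ρ ψ [] [(11, (1 : F))]) := by
  refine le_antisymm ?_ ?_
  · refine (finrank_nG (i := 1) (Z' := []) (L' := [(11, l / ((TG).eta 1 10 : F))]) (by norm_num) (by rfl)
      (by simp) (by rfl) ?_).trans (scale_eleven (div_ne_zero hl (eta_ne (by norm_num) (by norm_num))) one_ne_zero).le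
    simp [eta_facts.2]
  · have hne : ((TG).eta 1 11 : F) ≠ 0 := eta_ne (by norm_num) (by norm_num)
    refine (scale_eleven (b := l * ((TG).eta 1 11 : F)) one_ne_zero (mul_ne_zero hl hne)).le.trans
      (finrank_nG (i := 1) (by norm_num) (by rfl) (by simp) (by rfl) ?_)
    simp [eta_facts.1, hne]

/-- The root `10` is moved by the root `6` where the root `11` acts by a nontrivial character. -/
theorem step_ten (hψ : ψ.IsPrimitive) {n : F} (hn : n ≠ 0) (a : F) :
    finrank ℂ (wt ρ ψ [] [(11, n)]) = Fintype.card F * finrank ℂ (wt ρ ψ [] [(10, a), (11, n)]) := by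
  refine split_trans hψ (p := 0) Nat.cast_zero (ks := [11]) 10 (by decide +kernel) rfl (fun a b => ?_) a
  refine ⟨xr 6 ((a - b) / n), fun v hv => mem_wt.2 ⟨by simp, List.forall_mem_cons.2 ⟨?_, ?_⟩⟩⟩
  · have h11 : v ∈ eig ρ ψ (xr 11) n := wt_L hv (by simp)
    have h10 : v ∈ eig ρ ψ (xr 10) a := wt_L hv (by simp)
    have := shift (ρ := ρ) (ψ := ψ) (r := 6) (s := 10) (by norm_num) (by norm_num) (by decide +kernel)
      ((a - b) / n) (fun _ => n) (a := a) (β := b - a) (v := v) (fun c hc => ?_) h10 (fun u => ?_)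
    · rwa [add_sub_cancel] at this
    · rw [ct_6_10, List.mem_singleton] at hc
      subst hc
      exact Or.inr h11
    · simp [ct_6_10]
      field_simp
      ring
  · intro p hp
    rw [List.mem_singleton] at hp
    subst hp
    exact keep (p := 0) Nat.cast_zero (Z := []) (r := 6) (show okc 0 [] 6 11 = true by decide +kernel) (by simp) (wt_L hv (by simp))

theorem eleven_eq (hψ : ψ.IsPrimitive) {n : F} (hn : n ≠ 0) :
    finrank ℂ (wt ρ ψ [] [(11, n)]) = Fintype.card F * mw ρ ψ := by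
  classical
  have key : ∀ m : F, m ≠ 0 → finrank ℂ (wt ρ ψ [] [(11, m), (10, (1 : F))]) =
      finrank ℂ (wt ρ ψ [] [(10, (1 : F)), (11, n)]) := fun m hm => by
    have h1 := step_ten (ρ := ρ) hψ hm (1 : F)
    rw [scale_eleven hm hn, step_ten hψ hn 1] at h1
    rw [wt_swap]
    exact (Nat.eq_of_mul_eq_mul_left Fintype.card_pos h1).symm
  have h := split_const hψ (p := 0) Nat.cast_zero (ks := [10]) (L := [(10, (1 : F))]) 11 (Z := [])
    (by decide +kernel) rfl key
  rw [ten_eq_eleven one_ne_zero, ← scale_eleven hn one_ne_zero, step_ten hψ hn 1] at h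
  rw [step_ten hψ hn 1]
  congr 1
  obtain ⟨p, hp⟩ : ∃ p, Fintype.card F = p + 1 := ⟨Fintype.card F - 1, by have := Fintype.card_pos (α := F); omega⟩
  rw [hp, Nat.add_sub_cancel, add_one_mul] at h
  show _ = finrank ℂ (wt ρ ψ [11] [(10, (1 : F))])
  omega

theorem mw_eq (hψ : ψ.IsPrimitive) {n : F} (hn : n ≠ 0) (a : F) :
    finrank ℂ (wt ρ ψ [] [(10, a), (11, n)]) = mw ρ ψ :=
  Nat.eq_of_mul_eq_mul_left Fintype.card_pos ((step_ten hψ hn a).symm.trans (eleven_eq hψ hn))

/-- The decomposition. -/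
theorem decomp (hψ : ψ.IsPrimitive) :
    finrank ℂ V = (Fintype.card F * Fintype.card F - 1) * mw ρ ψ + finrank ℂ (wt ρ ψ [10, 11] []) := by
  classical
  have h1 := split_const hψ (p := 0) Nat.cast_zero (Z := []) (L := ([] : List (ℕ × F))) 11 (ks := [])
    (by decide +kernel) rfl fun a ha => eleven_eq (ρ := ρ) hψ ha
  rw [wt_nil, finrank_top] at h1
  have h2 := split_const hψ (p := 0) Nat.cast_zero (Z := [11]) (L := ([] : List (ℕ × F))) 10 (ks := [])
    (by decide +kernel) rfl fun a ha => scale_ten (ρ := ρ) (ψ := ψ) ha one_ne_zero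
  obtain ⟨p, hp⟩ : ∃ p, Fintype.card F = p + 1 := ⟨Fintype.card F - 1, by have := Fintype.card_pos (α := F); omega⟩
  rw [hp, Nat.add_sub_cancel] at h1 h2
  change _ = _ + p * mw ρ ψ at h2
  rw [hp, show (p + 1) * (p + 1) - 1 = p * (p + 1) + p by
    rw [Nat.add_one_mul]; omega, add_mul, mul_assoc]
  omega

/-- The highest root acts nontrivially. -/
theorem mw_pos [ρ.IsIrreducible] (hk : 2 ≤ finrank ℂ V) (hψ : ψ.IsPrimitive) (h2 : 2 < Fintype.card F) :
    mw ρ ψ ≠ 0 := by
  classical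
  intro h0
  have hn : ∀ n : F, n ≠ 0 → eig ρ ψ (xr 11) n = ⊥ := fun n hn => by
    refine Submodule.finrank_eq_zero.1 ?_
    have := eleven_eq (ρ := ρ) hψ hn
    rw [h0, mul_zero, wt_cons, wt_nil, top_inf_eq] at this
    exact this
  have htop : (⊤ : Submodule ℂ V) ≤ eig ρ ψ (xr 11) 0 :=
    le_eig_zero hψ (fun _ _ _ => trivial) fun n h => by rw [hn n h, inf_bot_eq]
  obtain ⟨a, ha0, ha1⟩ : ∃ a : F, a ≠ 0 ∧ a ≠ 1 := by
    by_contra hcon
    push Not at hcon
    have : (Finset.univ : Finset F) ⊆ {0, 1} := fun a _ => by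
      by_cases h : a = 0
      · simp [h]
      · simp [hcon a h]
    have := (Finset.card_le_card this).trans Finset.card_le_two
    rw [Finset.card_univ] at this
    omega
  have hsimple : IsSimpleGroup (Gd F) := by
    have := (Cfsg.Agent.S1055.result (F := F) ⟨a, ha0, ha1⟩).1
    rwa [← Data.G2.datum_eq] at this
  have hne : (xr 11 1 : Gd F) ≠ 1 := fun e => by
    have e' : (TG).xU F 11 1 = 1 := by
      have := congrArg Subtype.val e
      rwa [xr_val (by norm_num)] at this
    rw [← xU_zero Data.G2.valid (show 11 < (TG).n by rw [nG]; norm_num)] at e'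
    exact one_ne_zero (xU_inj Data.G2.valid (show 11 < (TG).n by rw [nG]; norm_num) e')
  rcases (MonoidHom.normal_ker ρ).eq_bot_or_eq_top with h | h
  · refine hne (Subgroup.mem_bot.1 (h ▸ MonoidHom.mem_ker.2 (LinearMap.ext fun v => ?_)))
    exact mem_eig_zero _ _ _ |>.1 (htop (Submodule.mem_top (x := v))) 1
  · have : (⊤ : Submodule ℂ V) = ⊥ := eq_bot_of_fixed (ρ := ρ) hk fun g v _ => by
      rw [MonoidHom.mem_ker.1 (h ▸ Subgroup.mem_top g), Module.End.one_apply]
    rw [← finrank_top ℂ V, this, finrank_bot] at hk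
    omega

end CfsgLib.KnownB.MinDegG2
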