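import Cfsg.Agent.Lib.KnownB.MinDegG2.Small
import Mathlib.Analysis.Complex.Polynomial.Basic

/-!
The case in which no vector is fixed by the whole positive part: the eigenspaces of an element of order
three centralising the long root subgroups.
-/

set_option autoImplicit false
set_option maxRecDepth 20000
set_option linter.unusedSectionVars false

noncomputable section

namespace CfsgLib.KnownB.MinDegG2

open CfsgLib.Chevalley CfsgLib.Chevalley.Tbl CfsgLib.KnownA.MinDeg
open Module (finrank)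

local notation "TG" => Data.G2.tbl

variable {F : Type*} [Field F] [Fintype F]

theorem tor_mul {d : ℕ} (hd : d < 12) (c c' : Fˣ) : tor d c * tor d c' = (tor d (c * c') : Gd F) := by
  refine Subtype.ext ?_
  rw [Subgroup.coe_mul, tor_val hd, tor_val hd, tor_val hd, dU_mul, hCh_mul]

theorem tor_one {d : ℕ} (hd : d < 12) : (tor d (1 : Fˣ) : Gd F) = 1 := by
  refine Subtype.ext ?_
  rw [tor_val hd, hCh_one, dU_one]
  rfl

theorem tor_pow {d : ℕ} (hd : d < 12) (c : Fˣ) : ∀ k : ℕ, (tor d c : Gd F) ^ k = tor d (c ^ k)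
  | 0 => by rw [pow_zero, pow_zero, tor_one hd]
  | k + 1 => by rw [pow_succ, tor_pow hd c k, tor_mul hd, pow_succ]

theorem tor_comm {d d' : ℕ} (hd : d < 12) (hd' : d' < 12) (c c' : Fˣ) :
    tor d c * tor d' c' = (tor d' c' * tor d c : Gd F) := by
  refine Subtype.ext ?_
  rw [Subgroup.coe_mul, Subgroup.coe_mul, tor_val hd, tor_val hd', dU_mul, dU_mul, mul_comm]

theorem exists_cube_root (h : Fintype.card F % 3 = 1) : ∃ ω : Fˣ, ω ^ 3 = 1 ∧ ω ≠ 1 := by
  classical
  haveI : Fact (Nat.Prime 3) := ⟨Nat.prime_three⟩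
  obtain ⟨ω, hω⟩ := exists_prime_orderOf_dvd_card 3 (G := Fˣ) (by rw [Fintype.card_units]; omega)
  exact ⟨ω, hω ▸ pow_orderOf_eq_one ω, fun e => by rw [e, orderOf_one] at hω; norm_num at hω⟩

variable (ω : Fˣ) (hω : ω ^ 3 = 1)

/-- The powers of the central element. -/
def hchar : AddChar (ZMod 3) (Gd F) where
  toFun t := tor 9 (ω ^ t.val)
  map_zero_eq_one' := by rw [ZMod.val_zero, pow_zero, tor_one (by norm_num)]
  map_add_eq_mul' a b := by
    rw [tor_mul (by norm_num), ← pow_add]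
    congr 1
    conv_rhs => rw [← Nat.mod_add_div (a.val + b.val) 3, pow_add, pow_mul, hω, one_pow, mul_one]
    rw [ZMod.val_add]

theorem hchar_comm {r : ℕ} (hr : decide (r < 12 ∧ (3 : ℤ) ∣ (TG).pair 9 r) = true) (t : ZMod 3) (u : F) :
    hchar ω hω t * xr r u = xr r u * hchar ω hω t := by
  simp only [decide_eq_true_eq] at hr
  obtain ⟨hr, k, hk⟩ := hr
  show tor 9 (ω ^ t.val) * xr r u = xr r u * tor 9 (ω ^ t.val)
  have e := tor_xr (show 9 < 12 by norm_num) hr (ω ^ t.val) u
  have h1 : (ω ^ t.val) ^ (TG).pair 9 r = 1 := by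
    rw [hk, zpow_mul, show ((3 : ℤ)) = ((3 : ℕ) : ℤ) from rfl, zpow_natCast, ← pow_mul, mul_comm, pow_mul, hω,
      one_pow, one_zpow]
  rwa [h1, Units.val_one, one_mul, eq_comm] at e

variable {V : Type*} [AddCommGroup V] [Module ℂ V] [FiniteDimensional ℂ V]
variable {ρ : Representation ℂ (Gd F) V} {ψ : AddChar F ℂ}

/-- The eigenspaces of the central element. -/
def Hs (ρ : Representation ℂ (Gd F) V) (i : ZMod 3) : Submodule ℂ V :=
  eig ρ ZMod.stdAddChar (hchar ω hω) i

variable {ω hω}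

theorem Hs_stable {r : ℕ} (hr : decide (r < 12 ∧ (3 : ℤ) ∣ (TG).pair 9 r) = true) (i : ZMod 3) {v : V}
    (hv : v ∈ Hs ω hω ρ i) (u : F) : ρ (xr r u) v ∈ Hs ω hω ρ i := fun t => by
  rw [act_mul, hchar_comm ω hω hr, ← act_mul, hv t, map_smul]

theorem h_wt {Z ks : List ℕ} {L : List (ℕ × F)} (hks : L.map Prod.fst = ks)
    (hZ : (Z.all fun r => decide (r < 12)) = true)
    (h : (ks.all fun r => decide (r < 12 ∧ (3 : ℤ) ∣ (TG).pair 9 r)) = true) :
    Stable ρ (hchar ω hω) (wt ρ ψ Z L) := by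
  intro t v hv
  simp only [List.all_eq_true, decide_eq_true_eq] at hZ h
  subst hks
  refine mem_wt.2 ⟨fun z hz => ?_, fun p hp u => ?_⟩
  · simpa [hchar] using tor_eig (show 9 < 12 by norm_num) (hZ z hz) (ω ^ t.val) (hv.1 z hz)
  · rw [act_mul, ← hchar_comm ω hω (by simpa using h p.1 (List.mem_map_of_mem hp)), ← act_mul, hv.2 p hp u,
      map_smul]

theorem proj_comm {x y : AddChar F (Gd F)} (hxy : ∀ a b, x a * y b = y b * x a) (v : V) :
    proj ρ ψ x 0 (proj ρ ψ y 0 v) = proj ρ ψ y 0 (proj ρ ψ x 0 v) := by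
  simp only [proj_apply, map_smul, map_sum, Finset.smul_sum, smul_smul]
  rw [Finset.sum_comm]
  refine Finset.sum_congr rfl fun a _ => Finset.sum_congr rfl fun b _ => ?_
  rw [act_mul, act_mul, hxy]
  congr 1
  ring

theorem proj_comm' {x : AddChar F (Gd F)} {g : Gd F} {v : V} (h : ∀ a, ρ (x a) (ρ g v) = ρ g (ρ (x a) v)) :
    proj ρ ψ x 0 (ρ g v) = ρ g (proj ρ ψ x 0 v) := by
  simp only [proj_apply, map_smul, map_sum, h]

/-- Averaging over the two highest root subgroups. -/
def avg (ρ : Representation ℂ (Gd F) V) (ψ : AddChar F ℂ) : V →ₗ[ℂ] V :=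
  (proj ρ ψ (xr 10) 0) ∘ₗ (proj ρ ψ (xr 11) 0)

theorem x10_x11 (a b : F) : (xr 10 a : Gd F) * xr 11 b = xr 11 b * xr 10 a := by
  have k : (TG).commT 11 10 = [] := by decide +kernel
  rw [xr_comm (F := F) (r := 11) (s := 10) (by norm_num) (by norm_num) (by norm_num) (by decide +kernel) b a, k,
    List.map_nil, List.prod_nil, mul_one]

theorem avg_self (hψ : ψ.IsPrimitive) {v : V} (hv : v ∈ wt ρ ψ [10, 11] []) : avg ρ ψ v = v := by
  classical
  rw [avg, LinearMap.comp_apply, proj_of_mem ρ _ hψ (wt_Z hv (z := 11) (by simp)), if_pos rfl,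
    proj_of_mem ρ _ hψ (wt_Z hv (z := 10) (by simp)), if_pos rfl]

theorem avg_six (u : F) (v : V) : avg ρ ψ (ρ (xr 6 u) v) = ρ (xr 6 u) (avg ρ ψ v) := by
  have h11 : proj ρ ψ (xr 11) 0 (ρ (xr 6 u) v) = ρ (xr 6 u) (proj ρ ψ (xr 11) 0 v) :=
    proj_comm' fun a => by
      have k : (TG).commT 6 11 = [] := by decide +kernel
      rw [act_mul, xr_comm (F := F) (r := 6) (s := 11) (by norm_num) (by norm_num) (by norm_num) (by decide +kernel) u a,
        k, List.map_nil, List.prod_nil, mul_one, ← act_mul]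
  rw [avg, LinearMap.comp_apply, LinearMap.comp_apply, h11]
  refine proj_comm' fun a => ?_
  have hw := proj_mem ρ ψ (xr 11) 0 v
  rw [act_comm (ψ := ψ) (r := 6) (s := 10) (by norm_num) (by norm_num) (by decide +kernel) u a (fun _ => 0)
    fun c hc => by
      rw [ct_6_10, List.mem_singleton] at hc
      subst hc
      exact Or.inr hw]
  simp

theorem ct_1_11 : (TG).commT 1 11 = [(6, -1, 1, 1)] := by decide +kernel

theorem ct_0_10 : (TG).commT 0 10 = [(5, -1, 1, 1)] := by decide +kernel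

theorem ct_0_6 : (TG).commT 0 6 = [(1, 1, 1, 1)] := by decide +kernel

/-- Averaging kills the proper translates. -/
theorem avg_translate (hψ : ψ.IsPrimitive) (hR : finrank ℂ (wt ρ ψ [6, 10, 11] []) = 0) {s t : F}
    (hst : ¬(s = 0 ∧ t = 0)) {v : V} (hv : v ∈ wt ρ ψ [10, 11] []) :
    avg ρ ψ (ρ (xr 1 s * xr 0 t) v) = 0 := by
  classical
  -- one case by the root 6, the other by its negative
  have h6 : ∀ (a : F) (w : V), a ≠ 0 → w ∈ wt ρ ψ [10, 11] [] → avg ρ ψ (ρ (xr 1 a) w) = 0 := by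
    intro a w ha hw
    have hst : Stable ρ (xr 6) (wt ρ ψ [10, 11] []) :=
      stable_of_pres (p := 0) Nat.cast_zero (ks := []) (by decide +kernel) rfl
    rw [← sum_proj ρ (xr 6) hψ w, map_sum, map_sum]
    refine Finset.sum_eq_zero fun l _ => ?_
    have hm : proj ρ ψ (xr 6) l w ∈ wt ρ ψ [10, 11] [(6, l)] := by
      rw [wt_cons]; exact ⟨proj_stable hst l hw, proj_mem ρ ψ (xr 6) l w⟩
    rcases eq_or_ne l 0 with rfl | hl
    · rw [wt_zero_cons, Submodule.finrank_eq_zero.1 hR, Submodule.mem_bot] at hm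
      rw [hm, map_zero, map_zero]
    · have h11 : proj ρ ψ (xr 6) l w ∈ eig ρ ψ (xr 11) 0 := wt_Z hm (by simp)
      have h6' : proj ρ ψ (xr 6) l w ∈ eig ρ ψ (xr 6) l := wt_L hm (by simp)
      have e := shift (ρ := ρ) (ψ := ψ) (r := 1) (s := 11) (by norm_num) (by norm_num) (by decide +kernel) a
        (fun _ => l) (a := 0) (β := l * a) (fun c hc => by
          rw [ct_1_11, List.mem_singleton] at hc; subst hc; exact Or.inr h6') h11
        (fun u => by simp [ct_1_11]; ring)
      rw [avg, LinearMap.comp_apply, proj_of_mem ρ _ hψ e, if_neg (by simp [hl, ha]), map_zero]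
  have h5 : ∀ (a : F) (w : V), a ≠ 0 → w ∈ wt ρ ψ [10, 11] [] → avg ρ ψ (ρ (xr 0 a) w) = 0 := by
    intro a w ha hw
    have hst : Stable ρ (xr 5) (wt ρ ψ [10, 11] []) :=
      stable_of_pres (p := 0) Nat.cast_zero (ks := []) (by decide +kernel) rfl
    rw [← sum_proj ρ (xr 5) hψ w, map_sum, map_sum]
    refine Finset.sum_eq_zero fun l _ => ?_
    have hm : proj ρ ψ (xr 5) l w ∈ wt ρ ψ [10, 11] [(5, l)] := by
      rw [wt_cons]; exact ⟨proj_stable hst l hw, proj_mem ρ ψ (xr 5) l w⟩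
    rcases eq_or_ne l 0 with rfl | hl
    · have hb : finrank ℂ (wt ρ ψ [10, 11] [(5, (0 : F))]) ≤ 0 := by
        rw [wt_zero_cons, ← hR]
        exact finrank_nG (i := 1) (by norm_num) (by rfl) (by simp) (by decide +kernel) (by rfl)
      rw [Submodule.finrank_eq_zero.1 (Nat.le_zero.1 hb), Submodule.mem_bot] at hm
      rw [hm, map_zero, map_zero]
    · have h10 : proj ρ ψ (xr 5) l w ∈ eig ρ ψ (xr 10) 0 := wt_Z hm (by simp)
      have h5' : proj ρ ψ (xr 5) l w ∈ eig ρ ψ (xr 5) l := wt_L hm (by simp)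
      have e := shift (ρ := ρ) (ψ := ψ) (r := 0) (s := 10) (by norm_num) (by norm_num) (by decide +kernel) a
        (fun _ => l) (a := 0) (β := l * a) (fun c hc => by
          rw [ct_0_10, List.mem_singleton] at hc; subst hc; exact Or.inr h5') h10
        (fun u => by simp [ct_0_10]; ring)
      rw [avg, LinearMap.comp_apply, proj_comm x10_x11, proj_of_mem ρ _ hψ e, if_neg (by simp [hl, ha]),
        map_zero]
  rcases eq_or_ne t 0 with rfl | ht
  · rw [AddChar.map_zero_eq_one, mul_one]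
    exact h6 s v (fun e => hst ⟨e, rfl⟩) hv
  have k10 : (TG).commT 1 0 = [] ∧ (TG).commT 1 6 = [] := by decide +kernel
  set c : F := -(s / t) with hc
  have e1 : (xr 1 s : Gd F) * xr 0 t = xr 6 c * xr 0 t * xr 6 (-c) := by
    have a1 := xr_comm (F := F) (r := 0) (s := 6) (by norm_num) (by norm_num) (by norm_num) (by decide +kernel) t c
    rw [ct_0_6] at a1
    simp only [List.map_cons, List.map_nil, List.prod_cons, List.prod_nil, mul_one, pow_one, Int.cast_one,
      one_mul] at a1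
    have e : -t * c = s := by rw [hc]; field_simp
    have a2 := xr_comm (F := F) (r := 1) (s := 6) (by norm_num) (by norm_num) (by norm_num) (by decide +kernel) s c
    rw [k10.2, List.map_nil, List.prod_nil, mul_one] at a2
    have a3 := xr_comm (F := F) (r := 1) (s := 0) (by norm_num) (by norm_num) (by norm_num) (by decide +kernel) s t
    rw [k10.1, List.map_nil, List.prod_nil, mul_one] at a3
    rw [a1, e, mul_assoc (xr 0 t) (xr 6 c), a2, ← mul_assoc, a3, mul_assoc (_ * _) (xr 6 c), ← AddChar.map_add_eq_mul,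
      add_neg_cancel, AddChar.map_zero_eq_one, mul_one]
  rw [e1, ← act_mul, ← act_mul, avg_six,
    h5 t _ ht (pres_mem (p := 0) Nat.cast_zero (ks := []) (by decide +kernel) rfl hv _), map_zero]

theorem card_eig {x : AddChar F (Gd F)} (hψ : ψ.IsPrimitive) {W : Submodule ℂ V} (hW : Stable ρ x W) {b : ℕ}
    (hb : ∀ a : F, a ≠ 0 → b ≤ finrank ℂ ↥(W ⊓ eig ρ ψ x a)) :
    (Fintype.card F - 1) * b ≤ finrank ℂ W := by
  classical
  have := card_mul_le hψ hW ((Finset.univ : Finset F).erase 0) fun a ha => hb a (Finset.ne_of_mem_erase ha)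
  rwa [MinDegG2.card_erase] at this

theorem translates_le (hψ : ψ.IsPrimitive) (hR : finrank ℂ (wt ρ ψ [6, 10, 11] []) = 0) {ε : ZMod 3}
    (hE : wt ρ ψ [10, 11] [] ≤ Hs ω hω ρ ε) :
    Fintype.card F * Fintype.card F * finrank ℂ (wt ρ ψ [10, 11] []) ≤ finrank ℂ (Hs ω hω ρ ε) := by
  classical
  let E := wt ρ ψ [10, 11] []
  have hmem : ∀ (p : F × F) (v : E), ρ (xr 1 p.1 * xr 0 p.2) (v : V) ∈ Hs ω hω ρ ε := fun p v => by
    rw [← act_mul]
    exact Hs_stable (by decide +kernel) ε (Hs_stable (by decide +kernel) ε (hE v.2) _) _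
  let Φ : (F × F → E) →ₗ[ℂ] Hs ω hω ρ ε :=
    ∑ p : F × F, (LinearMap.codRestrict _ ((ρ (xr 1 p.1 * xr 0 p.2)).comp E.subtype) (hmem p)) ∘ₗ
      LinearMap.proj p
  have hΦ : ∀ f, ((Φ f : Hs ω hω ρ ε) : V) = ∑ p : F × F, ρ (xr 1 p.1 * xr 0 p.2) (f p : V) := fun f => by
    simp [Φ, LinearMap.sum_apply, Submodule.coe_sum]
  have hinj : Function.Injective Φ := (injective_iff_map_eq_zero Φ).2 fun f hf => funext fun j => by
    have h0 : ∑ p : F × F, ρ (xr 1 p.1 * xr 0 p.2) (f p : V) = 0 := by rw [← hΦ, hf]; rfl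
    have k10 : (TG).commT 1 0 = [] := by decide +kernel
    have hcomm : ∀ a b : F, (xr 0 b : Gd F) * xr 1 a = xr 1 a * xr 0 b := fun a b => by
      rw [xr_comm (F := F) (r := 1) (s := 0) (by norm_num) (by norm_num) (by norm_num) (by decide +kernel) a b,
        k10, List.map_nil, List.prod_nil, mul_one]
    have h1 := congrArg (fun v => avg ρ ψ (ρ (xr 1 (-j.1) * xr 0 (-j.2)) v)) h0
    simp only [map_sum, map_zero, act_mul] at h1
    rw [Finset.sum_eq_single j (fun p _ hp => ?_) (fun h => absurd (Finset.mem_univ _) h)] at h1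
    · rw [show (xr 1 (-j.1) : Gd F) * xr 0 (-j.2) * (xr 1 j.1 * xr 0 j.2) = 1 by
        rw [mul_assoc, ← mul_assoc (xr 0 (-j.2)), hcomm, mul_assoc, ← AddChar.map_add_eq_mul, neg_add_cancel,
          AddChar.map_zero_eq_one, mul_one, ← AddChar.map_add_eq_mul, neg_add_cancel, AddChar.map_zero_eq_one],
        map_one, Module.End.one_apply, avg_self hψ (f j).2] at h1
      exact Subtype.ext h1
    · rw [show (xr 1 (-j.1) : Gd F) * xr 0 (-j.2) * (xr 1 p.1 * xr 0 p.2) =
          xr 1 (p.1 - j.1) * xr 0 (p.2 - j.2) by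
        rw [mul_assoc, ← mul_assoc (xr 0 (-j.2)), hcomm, mul_assoc, ← AddChar.map_add_eq_mul, ← mul_assoc,
          ← AddChar.map_add_eq_mul, neg_add_eq_sub, neg_add_eq_sub]]
      refine avg_translate hψ hR (fun h => hp (Prod.ext ?_ ?_)) (f p).2
      · exact sub_eq_zero.1 h.1
      · exact sub_eq_zero.1 h.2
  have := LinearMap.finrank_le_finrank_of_injective hinj
  rwa [Module.finrank_pi_fintype, Finset.sum_const, Finset.card_univ, Fintype.card_prod, smul_eq_mul] at this

/-- Every eigenspace of the central element has a large part where the highest root is nontrivial. -/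
theorem Hs_big (hψ : ψ.IsPrimitive) (h3 : (3 : F) ≠ 0) (hm : mm ρ ψ = 1) (hω1 : ω ≠ 1) (i : ZMod 3) :
    (Fintype.card F - 1) * Fintype.card F ≤ finrank ℂ (Hs ω hω ρ i) := by
  classical
  haveI : Fact (Nat.Prime 3) := ⟨Nat.prime_three⟩
  refine card_eig (x := xr 11) hψ (fun u v hv => Hs_stable (by decide +kernel) i hv u) fun n hn => ?_
  -- a vector in it fixed by the root 10
  have hline : ∀ k : F, finrank ℂ (wt ρ ψ [10] [(9, k), (11, n)]) = 1 := fun k => by
    have h10 := mw_eq (ρ := ρ) hψ hn 0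
    rw [wt_zero_cons] at h10
    have hsp : finrank ℂ (wt ρ ψ [10] [(11, n)]) =
        Fintype.card F * finrank ℂ (wt ρ ψ [10] [(9, k), (11, n)]) := by
      refine split_trans hψ (p := 0) Nat.cast_zero (ks := [11]) 9 (by decide +kernel) rfl (fun a b => ?_) k
      refine ⟨xr 8 ((a - b) / (3 * n)), fun v hv => mem_wt.2 ⟨fun z hz => ?_, List.forall_mem_cons.2 ⟨?_, ?_⟩⟩⟩
      · rw [List.mem_singleton] at hz
        subst hz
        exact keep (p := 0) Nat.cast_zero (Z := []) (r := 8) (by decide +kernel) (by simp) (wt_Z hv (by simp))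
      · have h11 : v ∈ eig ρ ψ (xr 11) n := wt_L hv (by simp)
        have h9 : v ∈ eig ρ ψ (xr 9) a := wt_L hv (by simp)
        have := shift (ρ := ρ) (ψ := ψ) (r := 8) (s := 9) (by norm_num) (by norm_num) (by decide +kernel)
          ((a - b) / (3 * n)) (fun _ => n) (a := a) (β := b - a) (v := v) (fun c hc => ?_) h9 (fun u => ?_)
        · rwa [add_sub_cancel] at this
        · rw [ct_8_9, List.mem_singleton] at hc
          subst hc
          exact Or.inr h11
        · simp [ct_8_9]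
          field_simp
          ring
      · intro p hp
        rw [List.mem_singleton] at hp
        subst hp
        exact keep (p := 0) Nat.cast_zero (Z := []) (r := 8) (show okc 0 [] 8 11 = true by decide +kernel)
          (by simp) (wt_L hv (by simp))
    rw [h10, mw_eq_mul hψ h3, hm] at hsp
    exact (Nat.eq_of_mul_eq_mul_left Fintype.card_pos hsp).symm
  obtain ⟨v, hv, hv0⟩ := Submodule.exists_mem_ne_zero_of_ne_bot (p := wt ρ ψ [10] [(9, (1 : F)), (11, n)])
    fun e => by have := hline 1; rw [e, finrank_bot] at this; omega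
  set w := proj ρ ZMod.stdAddChar (hchar ω hω) i v with hw
  have hwH : w ∈ Hs ω hω ρ i := proj_mem ρ _ _ i v
  have hwt : w ∈ wt ρ ψ [10] [(11, n)] :=
    proj_stable (h_wt (ks := [11]) rfl (by rfl) (by decide +kernel)) i
      (wt_mono (fun _ h => h) (by simp +contextual) hv)
  have hw0 : w ≠ 0 := by
    intro e
    have hp9 : ∀ b : ZMod 3, ρ (hchar ω hω b) v ∈
        eig ρ ψ (xr 9) (1 / (((ω ^ b.val) ^ (TG).pair 9 9 : Fˣ) : F)) := fun b => by
      show ρ (tor 9 (ω ^ b.val)) v ∈ _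
      exact tor_eig (by norm_num) (by norm_num) _ (wt_L hv (by simp))
    have e9 := congrArg (proj ρ ψ (xr 9) 1) e
    rw [hw, proj_apply ρ ZMod.stdAddChar (hchar ω hω) i v, map_smul, map_sum, map_zero, Finset.sum_eq_single (0 : ZMod 3) (fun b _ hb => ?_)
      (fun h => absurd (Finset.mem_univ _) h), map_smul, AddChar.map_zero_eq_one, map_one, Module.End.one_apply,
      proj_of_mem ρ _ hψ (wt_L hv (s := 9) (a := 1) (by simp)), if_pos rfl, smul_smul] at e9
    · rcases smul_eq_zero.1 e9 with h | h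
      · simp [(ZMod.stdAddChar (N := 3)).val_isUnit _ |>.ne_zero] at h
      · exact hv0 h
    · rw [map_smul, proj_of_mem ρ _ hψ (hp9 b), if_neg, smul_zero]
      intro hb'
      apply hb
      have hpr : (TG).pair 9 9 = 2 := by decide +kernel
      rw [hpr, eq_comm, one_div, inv_eq_one, Units.val_eq_one,
        show (2 : ℤ) = ((2 : ℕ) : ℤ) from rfl, zpow_natCast, ← pow_mul] at hb'
      have ho : orderOf ω = 3 := orderOf_eq_prime hω hω1
      have hd := orderOf_dvd_of_pow_eq_one hb'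
      rw [ho] at hd
      have hlt := ZMod.val_lt b
      exact (ZMod.val_eq_zero b).1 (by omega)
  have hst : Stable ρ (xr 10) (Hs ω hω ρ i ⊓ eig ρ ψ (xr 11) n) := fun u x hx =>
    ⟨Hs_stable (by decide +kernel) i hx.1 u,
      keep (p := 0) Nat.cast_zero (Z := []) (by decide +kernel) (by simp) hx.2⟩
  refine le_trans ?_ (card_mul_le hψ hst (Finset.univ : Finset F) (d := 1) fun a _ => ?_)
  · rw [Finset.card_univ, mul_one]
  · refine Submodule.one_le_finrank_iff.2 fun e => hw0 (map_injective (ρ := ρ) (xr 6 (-(a / n))) ?_)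
    have h11 : w ∈ eig ρ ψ (xr 11) n := wt_L hwt (by simp)
    have h10 := shift (ρ := ρ) (ψ := ψ) (r := 6) (s := 10) (by norm_num) (by norm_num) (by decide +kernel)
      (-(a / n)) (fun _ => n) (a := 0) (β := a) (fun c hc => by
        rw [ct_6_10, List.mem_singleton] at hc; subst hc; exact Or.inr h11) (wt_Z hwt (by simp))
      (fun u => by simp [ct_6_10]; field_simp)
    rw [zero_add] at h10
    have hmem : ρ (xr 6 (-(a / n))) w ∈ Hs ω hω ρ i ⊓ eig ρ ψ (xr 11) n ⊓ eig ρ ψ (xr 10) a :=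
      ⟨⟨Hs_stable (by decide +kernel) i hwH _,
        keep (p := 0) Nat.cast_zero (Z := []) (r := 6) (by decide +kernel) (by simp) h11⟩, h10⟩
    rw [e, Submodule.mem_bot] at hmem
    rw [hmem, map_zero]

/-- No vector fixed by the whole positive part: the degree is large. -/
theorem cusp_bound (hψ : ψ.IsPrimitive) (h3 : (3 : F) ≠ 0) (h4 : 4 < Fintype.card F) (hm : mm ρ ψ = 1)
    (hq : Fintype.card F % 3 = 1) (hR : finrank ℂ (wt ρ ψ [6, 10, 11] []) = 0)
    (hline : ∀ a : F, a ≠ 0 → finrank ℂ (wt ρ ψ [10, 11] [(6, a)]) = 1) :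
    Fintype.card F ^ 3 + 1 ≤ finrank ℂ V := by
  classical
  haveI : Fact (Nat.Prime 3) := ⟨Nat.prime_three⟩
  obtain ⟨ω, hω, hω1⟩ := exists_cube_root hq
  have hψ3 : (ZMod.stdAddChar (N := 3)).IsPrimitive := ZMod.isPrimitive_stdAddChar 3
  have hst : ∀ a : F, Stable ρ (hchar ω hω) (wt ρ ψ [10, 11] [(6, a)]) := fun a =>
    h_wt (ks := [6]) rfl (by rfl) (by decide +kernel)
  obtain ⟨ε, hε⟩ := exists_eig hψ3 (hst 1) fun e => by
    have := hline 1 one_ne_zero; rw [e, finrank_bot] at this; omega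
  have hE : wt ρ ψ [10, 11] [] ≤ Hs ω hω ρ ε := by
    rw [eq_sum_of_stable hψ (stable_of_pres (p := 0) Nat.cast_zero (s := 6) (ks := [])
      (show pres 0 [10, 11] [] 6 = true by decide +kernel) rfl)]
    refine iSup_le fun a => ?_
    rw [← wt_cons]
    rcases eq_or_ne a 0 with rfl | ha
    · rw [wt_zero_cons, Submodule.finrank_eq_zero.1 hR]; exact bot_le
    have hfull : wt ρ ψ [10, 11] [(6, (1 : F))] ≤ Hs ω hω ρ ε :=
      (Submodule.eq_of_le_of_finrank_le inf_le_left
        ((hline 1 one_ne_zero).le.trans (Submodule.one_le_finrank_iff.2 hε))).ge.trans inf_le_right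
    obtain ⟨v, hv, hv0⟩ := Submodule.exists_mem_ne_zero_of_ne_bot (p := wt ρ ψ [10, 11] [(6, (1 : F))])
      fun e => by have := hline 1 one_ne_zero; rw [e, finrank_bot] at this; omega
    set c : Fˣ := (Units.mk0 a ha)⁻¹ with hc
    have hp : (TG).pair 11 6 = 1 := by decide +kernel
    have hv' : ρ (tor 11 c) v ∈ wt ρ ψ [10, 11] [(6, a)] := by
      have := tor_wt (show 11 < 12 by norm_num) c (L := [(6, (1 : F))]) (by rfl) (by simp) hv
      simpa [hp, hc] using this
    have hH : ρ (tor 11 c) v ∈ Hs ω hω ρ ε := fun t => by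
      show ρ (tor 9 (ω ^ t.val)) (ρ (tor 11 c) v) = _
      rw [act_mul, tor_comm (by norm_num) (by norm_num), ← act_mul]
      exact (congrArg (ρ (tor 11 c)) (hfull hv t)).trans (map_smul _ _ _)
    intro x hx
    obtain ⟨z, hz⟩ := exists_smul_eq_of_finrank_eq_one (hline a ha) (x := ⟨_, hv'⟩)
      (fun e => hv0 (map_injective (ρ := ρ) _ ((congrArg Subtype.val e).trans (map_zero _).symm))) ⟨x, hx⟩
    rw [← show z • ρ (tor 11 c) v = x from congrArg Subtype.val hz]
    exact Submodule.smul_mem _ _ hH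
  have h1 := translates_le hψ hR hE
  have hEdim := split_six (ρ := ρ) (V := V) hψ
  rw [hR, hline 1 one_ne_zero, zero_add, mul_one] at hEdim
  rw [hEdim] at h1
  have hsum := finrank_eq_sum (ρ := ρ) (x := hchar ω hω) hψ3 (W := ⊤) fun _ _ _ => trivial
  have eTop : ∀ i : ZMod 3, finrank ℂ ↥((⊤ : Submodule ℂ V) ⊓ eig ρ ZMod.stdAddChar (hchar ω hω) i) =
      finrank ℂ (eig ρ ZMod.stdAddChar (hchar ω hω) i) := fun i => by rw [top_inf_eq]
  simp only [finrank_top, eTop] at hsum
  rw [← Finset.add_sum_erase Finset.univ _ (Finset.mem_univ ε)] at hsum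
  have h2 := Finset.card_nsmul_le_sum ((Finset.univ : Finset (ZMod 3)).erase ε) _ _ fun i _ =>
    Hs_big (ρ := ρ) (hω := hω) hψ h3 hm hω1 i
  rw [Finset.card_erase_of_mem (Finset.mem_univ _), Finset.card_univ, ZMod.card, smul_eq_mul] at h2
  simp only [Hs] at h1 h2
  generalize Fintype.card F = q at *
  obtain ⟨p, rfl⟩ : ∃ p, q = p + 2 := ⟨q - 2, by omega⟩
  simp only [show p + 2 - 1 = p + 1 by omega] at h1 h2
  simp only [show (3 : ℕ) - 1 = 2 from rfl] at h2
  have e : (p + 2) ^ 3 + (p * p + 2 * p) = (p + 2) * (p + 2) * (p + 1) + 2 * ((p + 1) * (p + 2)) := by ring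
  have : 1 ≤ p * p + 2 * p := by omega
  have h5 : (p + 2) * (p + 2) * (p + 1) + 2 * ((p + 1) * (p + 2)) ≤ finrank ℂ V :=
    (Nat.add_le_add h1 h2).trans (le_of_eq hsum.symm)
  omega

end CfsgLib.KnownB.MinDegG2
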