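import Cfsg.Agent.Lib.KnownB.MinDegG2.Common

/-!
The bound in characteristic other than three.
-/

set_option autoImplicit false
set_option maxRecDepth 20000
set_option linter.unusedSectionVars false

noncomputable section

namespace CfsgLib.KnownB.MinDegG2

open CfsgLib.Chevalley CfsgLib.Chevalley.Tbl CfsgLib.KnownA.MinDeg
open Module (finrank)

local notation "TG" => Data.G2.tbl

variable {F : Type*} [Field F] [Fintype F] {V : Type*} [AddCommGroup V] [Module ℂ V] [FiniteDimensional ℂ V]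
variable {ρ : Representation ℂ (Gd F) V} {ψ : AddChar F ℂ}

/-- A unit with a nontrivial small power. -/
theorem exists_pow_ne {k : ℕ} (hk : k ≠ 0) (h : k + 1 < Fintype.card F) : ∃ c : Fˣ, c ^ k ≠ 1 := by
  classical
  by_contra hcon
  push Not at hcon
  have hall : (Finset.univ : Finset Fˣ).card ≤ k := by
    refine le_trans (le_of_eq ?_) (IsCyclic.card_pow_eq_one_le (α := Fˣ) (Nat.pos_of_ne_zero hk))
    rw [Finset.filter_true_of_mem fun c _ => hcon c]
  rw [Finset.card_univ, Fintype.card_units] at hall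
  omega

/-- The torus makes a root act trivially on a weight line. -/
theorem line_fixed (hψ : ψ.IsPrimitive) {p : ℕ} (hp : (p : F) = 0) {Z ks : List ℕ} {L : List (ℕ × F)}
    {s d : ℕ} (h1 : finrank ℂ (wt ρ ψ Z L) = 1) (hst : pres p Z ks s = true) (hks : L.map Prod.fst = ks)
    (hd : decide (d < 12 ∧ s < 12) = true) (hZ : (Z.all fun z => decide (z < 12)) = true)
    (hL : ∀ q ∈ L, q.1 < 12 ∧ (TG).pair d q.1 = 0) (hc : ∃ c : Fˣ, c ^ (TG).pair d s ≠ 1) :
    wt ρ ψ Z L ≤ eig ρ ψ (xr s) 0 := by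
  classical
  simp only [decide_eq_true_eq] at hd
  have hne : wt ρ ψ Z L ≠ ⊥ := fun e => by rw [e, finrank_bot] at h1; omega
  obtain ⟨a, ha⟩ := exists_eig hψ (stable_of_pres hp hst hks) hne
  have hfull : wt ρ ψ Z L ≤ eig ρ ψ (xr s) a :=
    (Submodule.eq_of_le_of_finrank_le inf_le_left
      (h1.le.trans (Submodule.one_le_finrank_iff.2 ha))).ge.trans inf_le_right
  rcases eq_or_ne a 0 with rfl | ha0
  · exact hfull
  exfalso
  obtain ⟨c, hc⟩ := hc
  obtain ⟨v, hv, hv0⟩ := Submodule.exists_mem_ne_zero_of_ne_bot hne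
  have h2 := tor_wt hd.1 c hZ (fun q hq => (hL q hq).1) hv
  have h3 : ρ (tor d c) v ∈ wt ρ ψ Z L := mem_wt.2 ⟨h2.1, fun q hq => by
    simpa only [(hL q hq).2, zpow_zero, Units.val_one, div_one] using h2.2 _ (List.mem_map_of_mem hq)⟩
  have e := eig_unique hψ (fun e => hv0 (map_injective _ (e.trans (map_zero _).symm)))
    (tor_eig hd.1 hd.2 c (hfull hv)) (hfull h3)
  refine hc (Units.ext ?_)
  rw [div_eq_iff (Units.ne_zero _)] at e
  exact (mul_left_cancel₀ ha0 ((mul_one a).trans e)).symm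

theorem ct_7_9 : (TG).commT 7 9 = [(10, 3, 1, 1)] := by decide +kernel

theorem ct_8_9 : (TG).commT 8 9 = [(11, 3, 1, 1)] := by decide +kernel

/-- The multiplicity left after three roots. -/
abbrev mm (ρ : Representation ℂ (Gd F) V) (ψ : AddChar F ℂ) : ℕ :=
  finrank ℂ (wt ρ ψ [9, 11] [(10, (1 : F))])

theorem step_nine (hψ : ψ.IsPrimitive) (h3 : (3 : F) ≠ 0) {l : F} (hl : l ≠ 0) (a : F) :
    mw ρ ψ = Fintype.card F * finrank ℂ (wt ρ ψ [11] [(9, a), (10, l)]) := by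
  refine (scale_ten one_ne_zero hl).trans
    (split_trans hψ (p := 0) Nat.cast_zero (ks := [10]) 9 (by decide +kernel) rfl (fun a b => ?_) a)
  refine ⟨xr 7 ((a - b) / (3 * l)), fun v hv => mem_wt.2 ⟨fun z hz => ?_, List.forall_mem_cons.2 ⟨?_, ?_⟩⟩⟩
  · rw [List.mem_singleton] at hz
    subst hz
    exact keep (p := 0) Nat.cast_zero (Z := []) (r := 7) (by decide +kernel) (by simp) (wt_Z hv (by simp))
  · have h10 : v ∈ eig ρ ψ (xr 10) l := wt_L hv (by simp)
    have h9 : v ∈ eig ρ ψ (xr 9) a := wt_L hv (by simp)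
    have := shift (ρ := ρ) (ψ := ψ) (r := 7) (s := 9) (by norm_num) (by norm_num) (by decide +kernel)
      ((a - b) / (3 * l)) (fun _ => l) (a := a) (β := b - a) (v := v) (fun c hc => ?_) h9 (fun u => ?_)
    · rwa [add_sub_cancel] at this
    · rw [ct_7_9, List.mem_singleton] at hc
      subst hc
      exact Or.inr h10
    · simp [ct_7_9]
      field_simp
      ring
  · intro p hp
    rw [List.mem_singleton] at hp
    subst hp
    exact keep (p := 0) Nat.cast_zero (Z := []) (r := 7) (show okc 0 [] 7 10 = true by decide +kernel)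
      (by simp) (wt_L hv (by simp))

theorem mw_eq_mul (hψ : ψ.IsPrimitive) (h3 : (3 : F) ≠ 0) : mw ρ ψ = Fintype.card F * mm ρ ψ := by
  rw [step_nine hψ h3 one_ne_zero 0, wt_zero_cons]

theorem line_ten (hψ : ψ.IsPrimitive) (h3 : (3 : F) ≠ 0) (hm : mm ρ ψ = 1) {l : F} (hl : l ≠ 0) (a : F) :
    finrank ℂ (wt ρ ψ [11] [(9, a), (10, l)]) = 1 := by
  rw [← hm]
  exact Nat.eq_of_mul_eq_mul_left Fintype.card_pos ((step_nine hψ h3 hl a).symm.trans (mw_eq_mul hψ h3))

/-- The line above the root `10`. -/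
theorem line_fix (hψ : ψ.IsPrimitive) (h3 : (3 : F) ≠ 0) (h4 : 4 < Fintype.card F) (hm : mm ρ ψ = 1)
    {l : F} (hl : l ≠ 0) : wt ρ ψ [9, 11] [(10, l)] ≤ wt ρ ψ [6, 8, 9, 11] [(10, l)] := by
  have h1 : finrank ℂ (wt ρ ψ [9, 11] [(10, l)]) = 1 := by
    have := line_ten (ρ := ρ) hψ h3 hm hl 0
    rwa [wt_zero_cons] at this
  have hp : (TG).pair 8 10 = 0 ∧ (TG).pair 8 8 = 2 ∧ (TG).pair 8 6 = 3 := by decide +kernel
  have hc : ∀ k : ℕ, k ≠ 0 → k + 1 < Fintype.card F → ∃ c : Fˣ, c ^ (k : ℤ) ≠ 1 := fun k hk hk' => by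
    simpa using exists_pow_ne hk hk'
  have h8 : wt ρ ψ [9, 11] [(10, l)] ≤ eig ρ ψ (xr 8) 0 :=
    line_fixed (d := 8) hψ (p := 0) Nat.cast_zero (ks := [10]) h1 (by decide +kernel) rfl (by rfl) (by rfl)
      (by simp [hp.1]) (by rw [hp.2.1]; exact hc 2 (by norm_num) (by omega))
  have h6 : wt ρ ψ [9, 11] [(10, l)] ≤ eig ρ ψ (xr 6) 0 :=
    line_fixed (d := 8) hψ (p := 0) Nat.cast_zero (ks := [10]) h1 (by decide +kernel) rfl (by rfl) (by rfl)
      (by simp [hp.1]) (by rw [hp.2.2]; exact hc 3 (by norm_num) (by omega))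
  refine fun v hv => mem_wt.2 ⟨fun z hz => ?_, fun p hp => hv.2 p hp⟩
  simp only [List.mem_cons, List.not_mem_nil, or_false] at hz
  rcases hz with rfl | rfl | rfl | rfl
  · exact h6 hv
  · exact h8 hv
  · exact wt_Z hv (by simp)
  · exact wt_Z hv (by simp)

theorem scale_six {a b : F} (ha : a ≠ 0) (hb : b ≠ 0) :
    finrank ℂ (wt ρ ψ [10, 11] [(6, a)]) = finrank ℂ (wt ρ ψ [10, 11] [(6, b)]) :=
  finrank_scale (d := 11) (by decide +kernel) (by rfl) (by simp) ha hb

/-- The root `6` acts nontrivially on the vectors fixed by the two highest roots. -/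
theorem six_pos (hψ : ψ.IsPrimitive) (h3 : (3 : F) ≠ 0) (h4 : 4 < Fintype.card F) (hm : mm ρ ψ = 1) :
    1 ≤ finrank ℂ (wt ρ ψ [10, 11] [(6, (1 : F))]) := by
  have hne : ((TG).eta 0 10 : F) ≠ 0 := eta_ne (by norm_num) (by norm_num)
  have h := Submodule.finrank_mono (R := ℂ) (line_fix (ρ := ρ) hψ h3 h4 hm hne)
  have h1 := line_ten (ρ := ρ) hψ h3 hm hne 0
  rw [wt_zero_cons] at h1
  rw [h1] at h
  refine le_trans h (finrank_nG (i := 0) (by norm_num) (by rfl) (by simp) (by decide +kernel) ?_)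
  have : (TG).refl 0 10 = 6 := by decide +kernel
  simp [this, hne]

theorem split_six (hψ : ψ.IsPrimitive) :
    finrank ℂ (wt ρ ψ [10, 11] []) = finrank ℂ (wt ρ ψ [6, 10, 11] []) +
      (Fintype.card F - 1) * finrank ℂ (wt ρ ψ [10, 11] [(6, (1 : F))]) :=
  split_const hψ (p := 0) Nat.cast_zero (ks := []) 6 (by decide +kernel) rfl fun _ ha => scale_six ha one_ne_zero

/-- The bound, and the shape of a representation of the smallest degrees. -/
theorem bound [ρ.IsIrreducible] (hk : 2 ≤ finrank ℂ V) (hψ : ψ.IsPrimitive) (h3 : (3 : F) ≠ 0)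
    (h4 : 4 < Fintype.card F) :
    Fintype.card F ^ 3 + 1 ≤ finrank ℂ V ∨ (mm ρ ψ = 1 ∧
      finrank ℂ V + Fintype.card F = Fintype.card F ^ 3 + finrank ℂ (wt ρ ψ [10, 11] []) ∧
      Fintype.card F ^ 3 - 1 ≤ finrank ℂ V) := by
  have hd := decomp (ρ := ρ) hψ
  rw [mw_eq_mul hψ h3] at hd
  have hpos : mm ρ ψ ≠ 0 := fun e => mw_pos (ρ := ρ) hk hψ (by omega) (by rw [mw_eq_mul hψ h3, e, mul_zero])
  generalize hq : Fintype.card F = q at *
  rcases Nat.lt_or_ge (mm ρ ψ) 2 with hm | hm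
  · have hm1 : mm ρ ψ = 1 := by omega
    have he := six_pos (ρ := ρ) hψ h3 (by omega) hm1
    have hs := split_six (ρ := ρ) (V := V) hψ
    rw [hq] at hs
    have : (q - 1) * 1 ≤ (q - 1) * finrank ℂ (wt ρ ψ [10, 11] [(6, (1 : F))]) := Nat.mul_le_mul_left _ he
    rw [hm1, mul_one, Nat.sub_mul, one_mul] at hd
    have h5 : q ≤ q * q * q := Nat.le_mul_of_pos_left q (by positivity)
    rw [show q ^ 3 = q * q * q by ring]
    exact Or.inr ⟨hm1, by omega, by omega⟩
  · left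
    have h5 : (q * q - 1) * (q * 2) ≤ (q * q - 1) * (q * mm ρ ψ) :=
      Nat.mul_le_mul_left _ (Nat.mul_le_mul_left _ hm)
    have h6 : q ^ 3 + 1 ≤ (q * q - 1) * (q * 2) := by
      obtain ⟨p, rfl⟩ : ∃ p, q = p + 2 := ⟨q - 2, by omega⟩
      rw [show (p + 2) * (p + 2) - 1 = p * p + 4 * p + 3 by
        rw [show (p + 2) * (p + 2) = p * p + 4 * p + 4 by ring]; rfl]
      nlinarith
    omega

end CfsgLib.KnownB.MinDegG2
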