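import Cfsg.Agent.Lib.KnownB.MinDegG2.NotThree

/-!
The vectors fixed by the two highest roots in a representation of very small degree.
-/

set_option autoImplicit false
set_option maxRecDepth 20000
set_option linter.unusedSectionVars false

noncomputable section

namespace CfsgLib.KnownB.MinDegG2

open CfsgLib.Chevalley CfsgLib.Chevalley.Tbl CfsgLib.KnownA.MinDeg
open Module (finrank)

local notation "TG" => Data.G2.tbl

variable {F : Type*} [Field F] [Fintype F] {V : Type*} [AddCommGroup V] [Module ℂ V] [FiniteDimensional ℂ V]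
variable {ρ : Representation ℂ (Gd F) V} {ψ : AddChar F ℂ}

theorem ct_7_6 :
    (TG).commT 7 6 = [(8, -1, 1, 1), (9, 1, 2, 1), (10, 1, 3, 1), (11, 1, 3, 2)] := by decide +kernel

theorem ct_5_8 :
    (TG).commT 5 8 = [(7, 1, 1, 1), (9, -1, 1, 2), (11, 1, 1, 3), (10, 2, 2, 3)] := by decide +kernel

theorem eight_pair (hψ : ψ.IsPrimitive) (h4 : 4 < Fintype.card F)
    (hE : finrank ℂ (wt ρ ψ [10, 11] []) ≤ Fintype.card F) {j k : F} (hj : j ≠ 0) (hk : k ≠ 0) :
    finrank ℂ (wt ρ ψ [10, 11] [(9, k), (8, j)]) = 0 := by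
  classical
  have hp : (TG).pair 10 8 = 0 ∧ (TG).pair 6 9 = 0 := by decide +kernel
  have same : ∀ a b : F, a ≠ 0 → b ≠ 0 →
      finrank ℂ (wt ρ ψ [10, 11] [(9, b), (8, a)]) = finrank ℂ (wt ρ ψ [10, 11] [(9, k), (8, j)]) := by
    intro a b ha hb
    rw [wt_swap, finrank_scale (d := 6) (b := j) (by decide +kernel) (by rfl) (by simp [hp.2]) ha hj, wt_swap]
    exact finrank_scale (d := 10) (by decide +kernel) (by rfl) (by simp [hp.1]) hb hk
  have h8 : ∀ a : F, a ≠ 0 → (Fintype.card F - 1) * finrank ℂ (wt ρ ψ [10, 11] [(9, k), (8, j)]) ≤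
      finrank ℂ (wt ρ ψ [10, 11] [(8, a)]) := by
    intro a ha
    rw [split_const hψ (p := 0) Nat.cast_zero (ks := [8]) 9 (by decide +kernel) rfl fun b hb => same a b ha hb]
    exact Nat.le_add_left _ _
  by_contra hne
  have h := split hψ (p := 0) (F := F) (ρ := ρ) Nat.cast_zero (Z := [10, 11]) (L := ([] : List (ℕ × F))) (ks := [])
    8 (by decide +kernel) rfl
  have h2 := Finset.card_nsmul_le_sum ((Finset.univ : Finset F).erase 0) _ _ fun a ha =>
    h8 a (Finset.ne_of_mem_erase ha)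
  rw [card_erase, smul_eq_mul] at h2
  generalize hq : Fintype.card F = q at *
  obtain ⟨p, rfl⟩ : ∃ p, q = p + 5 := ⟨q - 5, by omega⟩
  have : (p + 4) * ((p + 4) * 1) ≤ (p + 4) * ((p + 4) * finrank ℂ (wt ρ ψ [10, 11] [(9, k), (8, j)])) :=
    Nat.mul_le_mul_left _ (Nat.mul_le_mul_left _ (Nat.pos_of_ne_zero hne))
  rw [show p + 5 - 1 = p + 4 by omega] at h2
  have : p + 6 ≤ (p + 4) * ((p + 4) * 1) := by nlinarith
  omega

theorem eight_zero (hψ : ψ.IsPrimitive) (h4 : 4 < Fintype.card F)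
    (hE : finrank ℂ (wt ρ ψ [10, 11] []) ≤ Fintype.card F) {j : F} (hj : j ≠ 0) :
    finrank ℂ (wt ρ ψ [10, 11] [(8, j)]) = 0 := by
  classical
  have same : ∀ a : F, a ≠ 0 →
      finrank ℂ (wt ρ ψ [9, 10, 11] [(8, a)]) = finrank ℂ (wt ρ ψ [9, 10, 11] [(8, j)]) :=
    fun a ha => finrank_scale (d := 6) (by decide +kernel) (by rfl) (by simp) ha hj
  have htr : finrank ℂ (wt ρ ψ [9, 10, 11] [(8, j)]) =
      Fintype.card F * finrank ℂ (wt ρ ψ [9, 10, 11] [(6, (0 : F)), (8, j)]) := by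
    refine split_trans hψ (p := 0) Nat.cast_zero (ks := [8]) 6 (by decide +kernel) rfl (fun a b => ?_) 0
    refine ⟨xr 7 ((b - a) / j), fun v hv => mem_wt.2 ⟨fun z hz => ?_, List.forall_mem_cons.2 ⟨?_, ?_⟩⟩⟩
    · exact keep (p := 0) Nat.cast_zero (Z := [10, 11])
        (List.all_eq_true.1 (show [9, 10, 11].all (okc 0 [10, 11] 7) = true by decide +kernel) z hz)
        (fun y hy => wt_Z hv (List.mem_cons_of_mem _ hy)) (wt_Z hv hz)
    · have h8 : v ∈ eig ρ ψ (xr 8) j := wt_L hv (by simp)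
      have h6 : v ∈ eig ρ ψ (xr 6) a := wt_L hv (by simp)
      have := shift (ρ := ρ) (ψ := ψ) (r := 7) (s := 6) (by norm_num) (by norm_num) (by decide +kernel)
        ((b - a) / j) (fun c => if c = 8 then j else 0) (a := a) (β := b - a) (v := v) (fun c hc => ?_) h6
        (fun u => ?_)
      · rwa [add_sub_cancel] at this
      · rw [ct_7_6] at hc
        simp only [List.mem_cons, List.not_mem_nil, or_false] at hc
        right
        rcases hc with rfl | rfl | rfl | rfl
        · simpa using h8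
        all_goals exact wt_Z hv (by simp)
      · simp [ct_7_6]
        field_simp
    · intro p hp
      rw [List.mem_singleton] at hp
      subst hp
      exact keep (p := 0) Nat.cast_zero (Z := [9, 10, 11]) (r := 7)
        (show okc 0 [9, 10, 11] 7 8 = true by decide +kernel) (fun y hy => wt_Z hv hy) (wt_L hv (by simp))
  have h0 : finrank ℂ (wt ρ ψ [9, 10, 11] [(8, j)]) = 0 := by
    by_contra hne
    have h := split_const (ρ := ρ) hψ (p := 0) Nat.cast_zero (Z := [9, 10, 11]) (L := ([] : List (ℕ × F)))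
      (ks := []) 8 (by decide +kernel) rfl same
    have h2 : finrank ℂ (wt ρ ψ [9, 10, 11] ([] : List (ℕ × F))) ≤ finrank ℂ (wt ρ ψ [10, 11] ([] : List (ℕ × F))) :=
      Submodule.finrank_mono (wt_mono (fun z hz => List.mem_cons_of_mem _ hz) fun _ h => h)
    rw [htr] at h hne
    have h1 : (Fintype.card F - 1) * (Fintype.card F * 1) ≤
        (Fintype.card F - 1) * (Fintype.card F * finrank ℂ (wt ρ ψ [9, 10, 11] [(6, (0 : F)), (8, j)])) :=
      Nat.mul_le_mul_left _ (Nat.mul_le_mul_left _ (Nat.pos_of_ne_zero fun e => hne (by rw [e, mul_zero])))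
    have h3 : 2 * Fintype.card F ≤ (Fintype.card F - 1) * (Fintype.card F * 1) := by
      rw [mul_one]; exact Nat.mul_le_mul_right _ (by omega)
    omega
  rw [split hψ (p := 0) Nat.cast_zero (ks := [8]) 9 (by decide +kernel) rfl, h0, zero_add]
  exact Finset.sum_eq_zero fun k hk => eight_pair hψ h4 hE hj (Finset.ne_of_mem_erase hk)

/-- The fixed vectors of the two highest roots are fixed by the roots `7`, `8`, `9`. -/
theorem fix_789 (hψ : ψ.IsPrimitive) (h4 : 4 < Fintype.card F)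
    (hE : finrank ℂ (wt ρ ψ [10, 11] []) ≤ Fintype.card F) :
    wt ρ ψ [10, 11] [] ≤ wt ρ ψ [7, 8, 9, 10, 11] [] := by
  classical
  have h8 : wt ρ ψ [10, 11] [] ≤ eig ρ ψ (xr 8) 0 :=
    le_eig_zero hψ (stable_of_pres (p := 0) Nat.cast_zero (ks := []) (by decide +kernel) rfl) fun a ha => by
      rw [← wt_cons]
      exact Submodule.finrank_eq_zero.1 (eight_zero hψ h4 hE ha)
  intro v hv
  have hv8 : ∀ u, ρ (xr 8 u) v = v := (mem_eig_zero _ _ _).1 (h8 hv)
  have h10 : ∀ u, ρ (xr 10 u) v = v := (mem_eig_zero _ _ _).1 (wt_Z hv (by simp))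
  have h11 : ∀ u, ρ (xr 11 u) v = v := (mem_eig_zero _ _ _).1 (wt_Z hv (by simp))
  -- the commutator of the roots 5 and 8
  have key : ∀ t u : F, ρ (xr 7 (-(t * u))) (ρ (xr 9 (t * u ^ 2)) v) = v := by
    intro t u
    have hvt : ρ (xr 5 t) v ∈ wt ρ ψ [10, 11] [] :=
      pres_mem (p := 0) Nat.cast_zero (ks := []) (by decide +kernel) rfl hv t
    have e := xr_comm (F := F) (r := 5) (s := 8) (by norm_num) (by norm_num) (by norm_num) (by decide +kernel) t u
    rw [ct_5_8] at e
    simp only [List.map_cons, List.map_nil, List.prod_cons, List.prod_nil, mul_one] at e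
    have e1 : ρ (xr 8 u) (ρ (xr 5 t) v) = ρ (xr 5 t) (ρ (xr 8 u) v) := by
      rw [(mem_eig_zero _ _ _).1 (h8 hvt) u, hv8 u]
    rw [act_mul, e, act_mul] at e1
    have e2 := map_injective (ρ := ρ) (xr 5 t * xr 8 u) ((show ρ (xr 5 t * xr 8 u) (ρ _ v) =
      ρ (xr 5 t * xr 8 u) v by rw [act_mul]; exact e1))
    rw [← act_mul, ← act_mul, ← act_mul, h10, h11] at e2
    convert e2 using 4 <;> · push_cast; ring
  have h9 : ∀ w, ρ (xr 9 w) v = v := by
    intro w
    obtain ⟨c, hc⟩ := exists_pow_ne (F := F) one_ne_zero (by omega)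
    rw [pow_one] at hc
    have hc1 : (c : F) - 1 ≠ 0 := sub_ne_zero.2 fun e => hc (Units.ext e)
    have k1 := key (w / ((c : F) - 1)) 1
    have k2 := key (w / ((c : F) - 1) / c) c
    rw [div_mul_cancel₀ _ c.ne_zero] at k2
    rw [mul_one, one_pow, mul_one] at k1
    have e := map_injective (ρ := ρ) _ (k2.trans k1.symm)
    have e3 := congrArg (ρ (xr 9 (-(w / ((c : F) - 1))))) e
    rw [act_mul, act_mul, ← AddChar.map_add_eq_mul, ← AddChar.map_add_eq_mul, neg_add_cancel,
      AddChar.map_zero_eq_one, map_one, Module.End.one_apply] at e3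
    have e4 : -(w / ((c : F) - 1)) + w / ((c : F) - 1) / c * c ^ 2 = w := by field_simp; ring
    rwa [e4] at e3
  have h7 : ∀ w, ρ (xr 7 w) v = v := fun w => by
    have := key (-w) 1
    rwa [h9, neg_mul, neg_neg, mul_one] at this
  refine mem_wt.2 ⟨fun z hz => (mem_eig_zero _ _ _).2 ?_, by simp⟩
  simp only [List.mem_cons, List.not_mem_nil, or_false] at hz
  rcases hz with rfl | rfl | rfl | rfl | rfl
  · exact h7
  · exact hv8
  · exact h9
  · exact h10
  · exact h11

/-- Each nonzero character of the root `6` once, and at most one further vector. -/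
theorem six_small (hψ : ψ.IsPrimitive) (h3 : (3 : F) ≠ 0) (h4 : 4 < Fintype.card F) (hm : mm ρ ψ = 1)
    (hE : finrank ℂ (wt ρ ψ [10, 11] []) ≤ Fintype.card F) :
    (∀ a : F, a ≠ 0 → finrank ℂ (wt ρ ψ [10, 11] [(6, a)]) = 1) ∧
      finrank ℂ (wt ρ ψ [6, 10, 11] []) ≤ 1 := by
  have h := split_six (ρ := ρ) (V := V) hψ
  have he := six_pos (ρ := ρ) hψ h3 h4 hm
  have e1 : finrank ℂ (wt ρ ψ [10, 11] [(6, (1 : F))]) = 1 := by
    by_contra hne
    have : (Fintype.card F - 1) * 2 ≤ (Fintype.card F - 1) * finrank ℂ (wt ρ ψ [10, 11] [(6, (1 : F))]) :=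
      Nat.mul_le_mul_left _ (by omega)
    omega
  refine ⟨fun a ha => (scale_six ha one_ne_zero).trans e1, ?_⟩
  rw [e1, mul_one] at h
  omega

end CfsgLib.KnownB.MinDegG2
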