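import Cfsg.Agent.Lib.KnownB.MinDegG2.Cusp

/-!
The case in which a line is fixed by the whole positive part.
-/

set_option autoImplicit false
set_option maxRecDepth 20000
set_option linter.unusedSectionVars false

noncomputable section

namespace CfsgLib.KnownB.MinDegG2

open CfsgLib.Chevalley CfsgLib.Chevalley.Tbl CfsgLib.KnownA.MinDeg
open Module (finrank)

local notation "TG" => Data.G2.tbl

variable {F : Type*} [Field F] [Fintype F]
variable {V : Type*} [AddCommGroup V] [Module ℂ V] [FiniteDimensional ℂ V]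
variable {ρ : Representation ℂ (Gd F) V} {ψ : AddChar F ℂ}

theorem proj_map {x y : AddChar F (Gd F)} {g : Gd F} {w : F} (hw : w ≠ 0)
    (h : ∀ t, y (w * t) * g = g * x t) (v : V) :
    proj ρ ψ y 0 (ρ g v) = ρ g (proj ρ ψ x 0 v) := by
  simp only [proj_apply, map_smul, map_sum, zero_mul, neg_zero, AddChar.map_zero_eq_one, one_smul]
  congr 1
  refine (Fintype.sum_equiv (Equiv.mulLeft₀ w hw) _ _ fun t => ?_).symm
  rw [Equiv.mulLeft₀_apply, act_mul, act_mul, h]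

theorem proj_nG {i r s : ℕ} (hi : i < 2) (hr : r < 12) (hs : (TG).refl i r = s) (v : V) :
    proj ρ ψ (xr s) 0 (ρ (nG' F i) v) = ρ (nG' F i) (proj ρ ψ (xr r) 0 v) := by
  subst hs
  exact proj_map (eta_ne hi hr) (nG_xr hi hr) v

theorem nG_one_eq : nG' F 1 = xr 6 1 * xr 5 (-1) * xr 6 1 := by
  refine Subtype.ext ?_
  have k : (TG).neg 6 = 5 := by decide +kernel
  rw [nG', dif_pos one_lt_two, Subgroup.coe_mul, Subgroup.coe_mul, xr_val (by norm_num), xr_val (by norm_num)]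
  show (TG).nU F ((TG).simple 1) 1 = _
  rw [simple_eq.2, nU, k, inv_one]

theorem ct_1_5 : (TG).commT 1 5 = [(0, 1, 1, 1)] := by decide +kernel

theorem ct_6_0 : (TG).commT 6 0 = [(1, -1, 1, 1)] := by decide +kernel

theorem ct_5_1 : (TG).commT 5 1 = [(0, -1, 1, 1)] := by decide +kernel

/-- The root `5` commutes with averaging. -/
theorem avg_five (c : F) (v : V) : avg ρ ψ (ρ (xr 5 c) v) = ρ (xr 5 c) (avg ρ ψ v) := by
  have h10 : proj ρ ψ (xr 10) 0 (ρ (xr 5 c) v) = ρ (xr 5 c) (proj ρ ψ (xr 10) 0 v) :=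
    proj_comm' fun a => by
      have k : (TG).commT 5 10 = [] := by decide +kernel
      rw [act_mul, xr_comm (F := F) (r := 5) (s := 10) (by norm_num) (by norm_num) (by norm_num) (by decide +kernel) c a,
        k, List.map_nil, List.prod_nil, mul_one, ← act_mul]
  rw [avg, LinearMap.comp_apply, LinearMap.comp_apply, proj_comm x10_x11, h10, proj_comm x10_x11]
  refine proj_comm' fun a => ?_
  have hw := proj_mem ρ ψ (xr 10) 0 v
  have k : (TG).commT 5 11 = [(10, 1, 1, 1)] := by decide +kernel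
  rw [act_comm (ψ := ψ) (r := 5) (s := 11) (by norm_num) (by norm_num) (by decide +kernel) c a (fun _ => 0)
    fun d hd => by
      rw [k, List.mem_singleton] at hd
      subst hd
      exact Or.inr hw]
  simp

theorem avg_zero_five (hψ : ψ.IsPrimitive) {l t : F} (hl : l ≠ 0) (ht : t ≠ 0) {w : V}
    (hw : w ∈ wt ρ ψ [10, 11] [(5, l)]) : avg ρ ψ (ρ (xr 0 t) w) = 0 := by
  classical
  have e := shift (ρ := ρ) (ψ := ψ) (r := 0) (s := 10) (by norm_num) (by norm_num) (by decide +kernel) t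
    (fun _ => l) (a := 0) (β := l * t) (fun c hc => by
      rw [ct_0_10, List.mem_singleton] at hc; subst hc; exact Or.inr (wt_L hw (by simp))) (wt_Z hw (by simp))
    (fun u => by simp [ct_0_10]; ring)
  rw [avg, LinearMap.comp_apply, proj_comm x10_x11, proj_of_mem ρ _ hψ e, if_neg (by simp [hl, ht]), map_zero]

/-- Only the part fixed by the root `6` survives averaging. -/
theorem avg_one (hψ : ψ.IsPrimitive) {s : F} (hs : s ≠ 0) {y : V} (hy : y ∈ wt ρ ψ [10, 11] []) :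
    avg ρ ψ (ρ (xr 1 s) y) = avg ρ ψ (ρ (xr 1 s) (proj ρ ψ (xr 6) 0 y)) := by
  classical
  have hst : Stable ρ (xr 6) (wt ρ ψ [10, 11] []) :=
    stable_of_pres (p := 0) Nat.cast_zero (ks := []) (by decide +kernel) rfl
  conv_lhs => rw [← sum_proj ρ (xr 6) hψ y, map_sum, map_sum]
  refine Finset.sum_eq_single 0 (fun l _ hl => ?_) fun h => absurd (Finset.mem_univ _) h
  have hm : proj ρ ψ (xr 6) l y ∈ wt ρ ψ [10, 11] [(6, l)] := by
    rw [wt_cons]; exact ⟨proj_stable hst l hy, proj_mem ρ ψ (xr 6) l y⟩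
  have e := shift (ρ := ρ) (ψ := ψ) (r := 1) (s := 11) (by norm_num) (by norm_num) (by decide +kernel) s
    (fun _ => l) (a := 0) (β := l * s) (fun c hc => by
      rw [ct_1_11, List.mem_singleton] at hc; subst hc; exact Or.inr (wt_L hm (by simp))) (wt_Z hm (by simp))
    (fun u => by simp [ct_1_11]; ring)
  rw [avg, LinearMap.comp_apply, proj_of_mem ρ _ hψ e, if_neg (by simp [hl, hs]), map_zero]

theorem five_line (hψ : ψ.IsPrimitive) (hline : ∀ a : F, a ≠ 0 → finrank ℂ (wt ρ ψ [10, 11] [(6, a)]) = 1)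
    {l : F} (hl : l ≠ 0) : finrank ℂ (wt ρ ψ [10, 11] [(5, l)]) = 1 := by
  have k : (TG).refl 1 5 = 6 ∧ (TG).refl 1 6 = 5 := by decide +kernel
  have h5 : ((TG).eta 1 5 : F) ≠ 0 := eta_ne (by norm_num) (by norm_num)
  have h6 : ((TG).eta 1 6 : F) ≠ 0 := eta_ne (by norm_num) (by norm_num)
  refine le_antisymm ?_ ?_
  · refine (finrank_nG (i := 1) (Z' := [10, 11]) (L' := [(6, l / ((TG).eta 1 5 : F))]) (by norm_num) (by rfl)
      (by simp) (by decide +kernel) ?_).trans (hline _ (div_ne_zero hl h5)).le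
    simp [k.1]
  · refine (hline (l * ((TG).eta 1 6 : F)) (mul_ne_zero hl h6)).ge.trans ?_
    refine finrank_nG (i := 1) (by norm_num) (by rfl) (by simp) (by decide +kernel) ?_
    simp [k.2, h6]

/-- The coefficient of the fixed line in its translates by the root `5`. -/
theorem exists_coef (hψ : ψ.IsPrimitive) (hR : finrank ℂ (wt ρ ψ [6, 10, 11] []) = 1) :
    ∃ (v : V) (g : ℂ), v ∈ wt ρ ψ [6, 10, 11] [] ∧ v ≠ 0 ∧
      (Fintype.card F : ℂ) * g ^ 2 = 1 + ((Fintype.card F : ℂ) - 1) * g ∧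
      (∀ s : F, s ≠ 0 → proj ρ ψ (xr 6) 0 (ρ (xr 5 s) v) = g • v) ∧
      (∀ s : F, s ≠ 0 → avg ρ ψ (ρ (xr 1 s) v) = g • v) := by
  classical
  obtain ⟨v, hv, hv0⟩ := Submodule.exists_mem_ne_zero_of_ne_bot (p := wt ρ ψ [6, 10, 11] [])
    fun e => by rw [e, finrank_bot] at hR; omega
  have hE : ∀ s, ρ (xr 5 s) v ∈ wt ρ ψ [10, 11] [] := fun s =>
    pres_mem (p := 0) Nat.cast_zero (ks := []) (by decide +kernel) rfl
      (wt_mono (fun z hz => List.mem_cons_of_mem _ hz) (fun _ h => h) hv) s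
  have hline : ∀ w ∈ wt ρ ψ [6, 10, 11] [], ∃ z : ℂ, z • v = w := fun w hw => by
    obtain ⟨z, hz⟩ := exists_smul_eq_of_finrank_eq_one hR (x := ⟨v, hv⟩) (fun e => hv0 (congrArg Subtype.val e))
      ⟨w, hw⟩
    exact ⟨z, congrArg Subtype.val hz⟩
  have hP : ∀ y ∈ wt ρ ψ [10, 11] [], proj ρ ψ (xr 6) 0 y ∈ wt ρ ψ [6, 10, 11] [] := fun y hy => by
    rw [← wt_zero_cons, wt_cons]
    exact ⟨proj_stable (stable_of_pres (p := 0) Nat.cast_zero (ks := []) (by decide +kernel) rfl) 0 hy,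
      proj_mem ρ ψ _ 0 y⟩
  obtain ⟨g, hg⟩ := hline _ (hP _ (hE 1))
  have hs : ∀ s : F, s ≠ 0 → proj ρ ψ (xr 6) 0 (ρ (xr 5 s) v) = g • v := by
    intro s hs
    have hp : (TG).pair 11 6 = 1 ∧ (TG).pair 11 5 = -1 := by decide +kernel
    set c : Fˣ := (Units.mk0 s hs)⁻¹ with hc
    have hcv : ρ (tor 11 c) v ∈ wt ρ ψ [6, 10, 11] [] := by
      have := tor_wt (show 11 < 12 by norm_num) c (L := ([] : List (ℕ × F))) (by rfl) (by simp) hv
      simpa using this
    obtain ⟨χ, hχ⟩ := hline _ hcv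
    have hχ0 : χ ≠ 0 := fun e => hv0 (map_injective (ρ := ρ) (tor 11 c) (by rw [← hχ, e, zero_smul, map_zero]))
    have e5 : ρ (xr 5 s) (ρ (tor 11 c) v) = ρ (tor 11 c) (ρ (xr 5 1) v) := by
      rw [act_mul, act_mul, ← tor_xr (show 11 < 12 by norm_num) (show 5 < 12 by norm_num) c 1]
      simp [hp.2, hc]
    have e := congrArg (proj ρ ψ (xr 6) 0) e5
    rw [proj_map (Units.ne_zero _) (tor_xr (show 11 < 12 by norm_num) (show 6 < 12 by norm_num) c), ← hg,
      map_smul, ← hχ, map_smul, map_smul, smul_comm g] at e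
    exact smul_right_injective V hχ0 e
  have hfix : ∀ u, ρ (xr 6 u) v = v := (mem_eig_zero _ _ _).1 (wt_Z hv (by simp))
  have hP6 : ∀ (u : F) (w : V), proj ρ ψ (xr 6) 0 (ρ (xr 6 u) w) = proj ρ ψ (xr 6) 0 w := fun u w => by
    rw [proj_comm' fun a => by rw [act_add ρ (xr 6), act_add ρ (xr 6), add_comm]]
    exact (mem_eig_zero _ _ _).1 (proj_mem ρ ψ (xr 6) 0 w) u
  have hnv : proj ρ ψ (xr 6) 0 (ρ (nG' F 1) v) = g • v := by
    rw [nG_one_eq, ← act_mul, ← act_mul, hfix, hP6, hs _ (neg_ne_zero.2 one_ne_zero)]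
  have hnv' : proj ρ ψ (xr 6) 0 (ρ (nG' F 1)⁻¹ v) = g • v := by
    rw [nG_one_eq, mul_inv_rev, mul_inv_rev, ← AddChar.map_neg_eq_inv, ← AddChar.map_neg_eq_inv, neg_neg,
      ← act_mul, ← act_mul, hfix, hP6, hs _ one_ne_zero]
  have hsq : (Fintype.card F : ℂ) * g ^ 2 = 1 + ((Fintype.card F : ℂ) - 1) * g := by
    have h5 : proj ρ ψ (xr 5) 0 v = g • ρ (nG' F 1) v := by
      have := proj_nG (ρ := ρ) (ψ := ψ) (i := 1) (r := 6) (s := 5) (by norm_num) (by norm_num) (by decide +kernel)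
        (ρ (nG' F 1)⁻¹ v)
      rwa [act_mul (ρ := ρ) (nG' F 1), mul_inv_cancel, map_one, Module.End.one_apply, hnv', map_smul] at this
    have e := congrArg (proj ρ ψ (xr 6) 0) h5
    rw [map_smul, hnv, smul_smul, proj_apply ρ ψ (xr 5) 0 v, map_smul, map_sum,
      ← Finset.add_sum_erase Finset.univ _ (Finset.mem_univ (0 : F))] at e
    simp only [zero_mul, neg_zero, AddChar.map_zero_eq_one, one_smul, map_one, Module.End.one_apply] at e
    rw [proj_of_mem ρ _ hψ (wt_Z hv (z := 6) (by simp)), if_pos rfl,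
      Finset.sum_congr rfl fun s h => hs s (Finset.ne_of_mem_erase h), Finset.sum_const, card_erase,
      ← Nat.cast_smul_eq_nsmul ℂ, smul_smul] at e
    conv_lhs at e => rw [← one_smul ℂ v, smul_smul, mul_one, ← add_smul, smul_smul]
    have := smul_left_injective ℂ hv0 e
    rw [Nat.cast_sub Fintype.card_pos, Nat.cast_one] at this
    have hq : (Fintype.card F : ℂ) ≠ 0 := Nat.cast_ne_zero.2 Fintype.card_ne_zero
    field_simp at this
    linear_combination -this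
  refine ⟨v, g, hv, hv0, hsq, hs, fun s hsz => ?_⟩
  have k : (TG).refl 0 5 = 1 ∧ (TG).refl 0 6 = 10 ∧ (TG).refl 0 11 = 11 := by decide +kernel
  have hn : ρ (nG' F 0) v ∈ wt ρ ψ [6, 10, 11] [] := by
    refine wt_mono (fun z hz => ?_) (fun _ h => h)
      (nG_wt (i := 0) (by norm_num) (L := []) (by rfl) (by simp) hv)
    revert hz; revert z; decide +kernel
  obtain ⟨κ, hκ⟩ := hline _ hn
  have hκ0 : κ ≠ 0 := fun e => hv0 (map_injective (ρ := ρ) (nG' F 0) (by rw [← hκ, e, zero_smul, map_zero]))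
  set η : F := ((TG).eta 0 5 : F) with hη
  have hη0 : η ≠ 0 := eta_ne (by norm_num) (by norm_num)
  have e1 : ρ (xr 1 s) (ρ (nG' F 0) v) = ρ (nG' F 0) (ρ (xr 5 (s / η)) v) := by
    have := nG_xr (F := F) (i := 0) (r := 5) (by norm_num) (by norm_num) (s / η)
    rw [k.1, ← hη, mul_div_cancel₀ _ hη0] at this
    rw [act_mul, act_mul, this]
  have e2 : avg ρ ψ (ρ (xr 1 s) (ρ (nG' F 0) v)) = κ • g • v := by
    rw [e1, avg, LinearMap.comp_apply,
      proj_nG (i := 0) (r := 11) (by norm_num) (by norm_num) k.2.2, proj_of_mem ρ _ hψ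
        (wt_Z (hE _) (z := 11) (by simp)), if_pos rfl,
      proj_nG (i := 0) (r := 6) (by norm_num) (by norm_num) k.2.1, hs _ (div_ne_zero hsz hη0), map_smul, ← hκ,
      smul_comm g κ]
  rw [← hκ, map_smul, map_smul] at e2
  exact smul_right_injective V hκ0 e2

variable {ω : Fˣ} {hω : ω ^ 3 = 1}

/-- The eigenvalue pieces inside an eigenspace of the central element. -/
def piece (ρ : Representation ℂ (Gd F) V) (ψ : AddChar F ℂ) (ω : Fˣ) (hω : ω ^ 3 = 1) (i : ZMod 3) (a b : F) :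
    Submodule ℂ V :=
  Hs ω hω ρ i ⊓ eig ρ ψ (xr 0) b ⊓ eig ρ ψ (xr 1) a

theorem sum_erase_char (hψ : ψ.IsPrimitive) [DecidableEq F] {l : F} (hl : l ≠ 0) :
    ∑ s ∈ (Finset.univ : Finset F).erase 0, ψ (-(l * s)) = -1 := by
  have h := sum_mul_eq hψ (-l)
  rw [if_neg (neg_ne_zero.2 hl), ← Finset.add_sum_erase Finset.univ _ (Finset.mem_univ (0 : F)), mul_zero,
    AddChar.map_zero_eq_one] at h
  simp only [neg_mul] at h
  linear_combination h

/-- The coefficient of the fixed line in the eigenvectors of the root `5`. -/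
theorem coef_five (hψ : ψ.IsPrimitive) {v w : V} {g β μ : ℂ} (hv : v ∈ wt ρ ψ [6, 10, 11] []) (hv0 : v ≠ 0)
    (h5v : ∀ s : F, s ≠ 0 → proj ρ ψ (xr 6) 0 (ρ (xr 5 s) v) = g • v) {l : F} (hl : l ≠ 0)
    (hμ : proj ρ ψ (xr 6) 0 w = μ • v) (hβ : β • w = proj ρ ψ (xr 5) l v) :
    (Fintype.card F : ℂ) * (β * μ) = 1 - g := by
  classical
  have e := congrArg (proj ρ ψ (xr 6) 0) hβ
  rw [map_smul, hμ, smul_smul, proj_apply ρ ψ (xr 5) l v, map_smul, map_sum,
    ← Finset.add_sum_erase Finset.univ _ (Finset.mem_univ (0 : F)), mul_zero, neg_zero, AddChar.map_zero_eq_one,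
    one_smul, AddChar.map_zero_eq_one, map_one, Module.End.one_apply,
    proj_of_mem ρ _ hψ (wt_Z hv (z := 6) (by simp)), if_pos rfl,
    Finset.sum_congr rfl fun s h => (by rw [map_smul, h5v s (Finset.ne_of_mem_erase h), smul_smul] :
      proj ρ ψ (xr 6) 0 (ψ (-(l * s)) • ρ (xr 5 s) v) = (ψ (-(l * s)) * g) • v),
    ← Finset.sum_smul, ← Finset.sum_mul, sum_erase_char hψ hl] at e
  conv_rhs at e => rw [← one_smul ℂ v, smul_smul, mul_one, ← add_smul, smul_smul]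
  have := smul_left_injective ℂ hv0 e
  have hq : (Fintype.card F : ℂ) ≠ 0 := Nat.cast_ne_zero.2 Fintype.card_ne_zero
  field_simp at this
  linear_combination this

/-- The translates along one line of the lower part, averaged. -/
theorem sum_avg_line (hψ : ψ.IsPrimitive) {v w : V} {g μ : ℂ} {l s : F} (hs : s ≠ 0)
    (hw : w ∈ wt ρ ψ [10, 11] [(5, l)]) (h1v : avg ρ ψ (ρ (xr 1 s) v) = g • v)
    (hμ : proj ρ ψ (xr 6) 0 w = μ • v) :
    ∑ t : F, avg ρ ψ (ρ (xr 1 s) (ρ (xr 0 t) w)) =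
      (g * μ * (Fintype.card F : ℂ)) • proj ρ ψ (xr 5) l v := by
  have hw5 : w ∈ eig ρ ψ (xr 5) l := wt_L hw (by simp)
  have hwE : w ∈ wt ρ ψ [10, 11] [] := wt_mono (fun _ h => h) (by simp) hw
  have hterm : ∀ c : F, avg ρ ψ (ρ (xr 1 s) (ρ (xr 0 (-(s * c))) w)) =
      (g * μ) • (ψ (-(l * c)) • ρ (xr 5 c) v) := by
    intro c
    have a1 := xr_comm (F := F) (r := 1) (s := 5) (by norm_num) (by norm_num) (by norm_num) (by decide +kernel) s c
    rw [ct_1_5] at a1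
    simp only [List.map_cons, List.map_nil, List.prod_cons, List.prod_nil, mul_one, pow_one, Int.cast_one,
      one_mul] at a1
    have k : (TG).commT 5 0 = [] := by decide +kernel
    have a2 := xr_comm (F := F) (r := 5) (s := 0) (by norm_num) (by norm_num) (by norm_num) (by decide +kernel)
      (-c) (-(s * c))
    rw [k, List.map_nil, List.prod_nil, mul_one] at a2
    have key : (xr 5 c : Gd F) * xr 1 s * xr 5 (-c) = xr 1 s * xr 0 (-(s * c)) := by
      rw [a1, neg_mul, mul_assoc (_ * _) (xr 0 _), a2, mul_assoc (xr 1 s),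
        ← mul_assoc (xr 5 c), ← AddChar.map_add_eq_mul, add_neg_cancel, AddChar.map_zero_eq_one, one_mul]
    rw [act_mul, ← key, ← act_mul, ← act_mul, hw5 (-c), mul_neg, map_smul, map_smul, map_smul, avg_five,
      avg_one hψ hs hwE, hμ, map_smul, map_smul, h1v, map_smul, map_smul, smul_comm (ψ (-(l * c))) μ,
      smul_comm (ψ (-(l * c))) g, smul_smul, mul_comm μ g]
  rw [← Equiv.sum_comp (Equiv.mulLeft₀ (-s) (neg_ne_zero.2 hs))]
  simp only [Equiv.mulLeft₀_apply, neg_mul, hterm]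
  rw [← Finset.smul_sum, proj_apply, smul_smul, mul_assoc (g * μ),
    mul_inv_cancel₀ (Nat.cast_ne_zero.2 Fintype.card_ne_zero), mul_one]

theorem avg_proj_two (a : F) (w : V) :
    avg ρ ψ (proj ρ ψ (xr 1) a (proj ρ ψ (xr 0) 0 w)) = (Fintype.card F : ℂ)⁻¹ • ∑ s : F,
      ψ (-(a * s)) • ((Fintype.card F : ℂ)⁻¹ • ∑ t : F, avg ρ ψ (ρ (xr 1 s) (ρ (xr 0 t) w))) := by
  rw [proj_apply ρ ψ (xr 1) a, map_smul, map_sum]
  congr 1
  refine Finset.sum_congr rfl fun s _ => ?_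
  rw [map_smul, proj_apply ρ ψ (xr 0) 0 w, map_smul, map_sum, map_smul, map_sum]
  simp [zero_mul]

/-- A nonzero vector with prescribed eigenvalues at the roots `0`, `1`, `5`. -/
theorem exists_piece (hψ : ψ.IsPrimitive) {v : V} {g : ℂ} (hv : v ∈ wt ρ ψ [6, 10, 11] []) (hv0 : v ≠ 0)
    (hg : (Fintype.card F : ℂ) * g ^ 2 = 1 + ((Fintype.card F : ℂ) - 1) * g)
    (h5v : ∀ s : F, s ≠ 0 → proj ρ ψ (xr 6) 0 (ρ (xr 5 s) v) = g • v)
    (h1v : ∀ s : F, s ≠ 0 → avg ρ ψ (ρ (xr 1 s) v) = g • v)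
    (hR : finrank ℂ (wt ρ ψ [6, 10, 11] []) = 1)
    {i : ZMod 3} {a l : F} (ha : a ≠ 0) (hl : l ≠ 0)
    (h1 : finrank ℂ (wt ρ ψ [10, 11] [(5, l)]) = 1) {w : V} (hw : w ∈ wt ρ ψ [10, 11] [(5, l)]) (hw0 : w ≠ 0)
    (hwH : w ∈ Hs ω hω ρ i) : piece ρ ψ ω hω i a 0 ⊓ eig ρ ψ (xr 5) l ≠ ⊥ := by
  classical
  have hq : (Fintype.card F : ℂ) ≠ 0 := Nat.cast_ne_zero.2 Fintype.card_ne_zero
  set y := proj ρ ψ (xr 0) 0 w with hy
  set u := proj ρ ψ (xr 1) a y with hu
  have hw5 : w ∈ eig ρ ψ (xr 5) l := wt_L hw (by simp)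
  have hwE : w ∈ wt ρ ψ [10, 11] [] := wt_mono (fun _ h => h) (by simp) hw
  have hst0 : Stable ρ (xr 0) (Hs ω hω ρ i ⊓ eig ρ ψ (xr 5) l) := fun t x hx =>
    ⟨Hs_stable (by decide +kernel) i hx.1 t,
      keep (p := 0) Nat.cast_zero (Z := []) (by decide +kernel) (by simp) hx.2⟩
  have hy0 : y ∈ Hs ω hω ρ i ⊓ eig ρ ψ (xr 0) 0 ⊓ eig ρ ψ (xr 5) l :=
    ⟨⟨(proj_stable (ψ := ψ) hst0 0 ⟨hwH, hw5⟩).1, proj_mem ρ ψ (xr 0) 0 w⟩, (proj_stable (ψ := ψ) hst0 0 ⟨hwH, hw5⟩).2⟩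
  have hst1 : Stable ρ (xr 1) (Hs ω hω ρ i ⊓ eig ρ ψ (xr 0) 0 ⊓ eig ρ ψ (xr 5) l) := fun t x hx =>
    ⟨⟨Hs_stable (by decide +kernel) i hx.1.1 t,
      keep (p := 0) Nat.cast_zero (Z := []) (by decide +kernel) (by simp) hx.1.2⟩,
      keep (p := 0) Nat.cast_zero (Z := [0]) (by decide +kernel)
        (fun z hz => by rw [List.mem_singleton] at hz; subst hz; exact hx.1.2) hx.2⟩
  have hu' := proj_stable (ψ := ψ) hst1 a hy0
  refine fun e => ?_
  have hmem : u ∈ piece ρ ψ ω hω i a 0 ⊓ eig ρ ψ (xr 5) l :=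
    ⟨⟨⟨hu'.1.1, hu'.1.2⟩, proj_mem ρ ψ (xr 1) a y⟩, hu'.2⟩
  rw [e, Submodule.mem_bot] at hmem
  obtain ⟨μ, hμ⟩ : ∃ μ : ℂ, μ • v = proj ρ ψ (xr 6) 0 w := by
    obtain ⟨z, hz⟩ := exists_smul_eq_of_finrank_eq_one hR (x := ⟨v, hv⟩)
      (fun e => hv0 (congrArg Subtype.val e)) ⟨proj ρ ψ (xr 6) 0 w, by
        rw [← wt_zero_cons, wt_cons]
        exact ⟨proj_stable (stable_of_pres (p := 0) Nat.cast_zero (ks := []) (by decide +kernel) rfl) 0 hwE,
          proj_mem ρ ψ _ 0 w⟩⟩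
    exact ⟨z, congrArg Subtype.val hz⟩
  have hvE : v ∈ wt ρ ψ [10, 11] [] := wt_mono (fun z hz => List.mem_cons_of_mem _ hz) (fun _ h => h) hv
  have hpm : proj ρ ψ (xr 5) l v ∈ wt ρ ψ [10, 11] [(5, l)] := by
    rw [wt_cons]
    exact ⟨proj_stable (stable_of_pres (p := 0) Nat.cast_zero (ks := []) (by decide +kernel) rfl) l hvE,
      proj_mem ρ ψ _ l v⟩
  obtain ⟨β, hβ⟩ : ∃ β : ℂ, β • w = proj ρ ψ (xr 5) l v := by
    obtain ⟨z, hz⟩ := exists_smul_eq_of_finrank_eq_one h1 (x := ⟨w, hw⟩)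
      (fun e => hw0 (congrArg Subtype.val e)) ⟨_, hpm⟩
    exact ⟨z, congrArg Subtype.val hz⟩
  have hco := coef_five hψ hv hv0 h5v hl hμ.symm hβ
  have h00 : ∑ t : F, avg ρ ψ (ρ (xr 1 (0 : F)) (ρ (xr 0 t) w)) = w := by
    rw [Finset.sum_eq_single (0 : F) (fun t _ ht => by
      rw [AddChar.map_zero_eq_one, map_one, Module.End.one_apply, avg_zero_five hψ hl ht hw])
      (fun h => absurd (Finset.mem_univ _) h), AddChar.map_zero_eq_one, AddChar.map_zero_eq_one, map_one,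
      Module.End.one_apply, Module.End.one_apply, avg_self hψ hwE]
  have havg : avg ρ ψ u = ((Fintype.card F : ℂ)⁻¹ * (Fintype.card F : ℂ)⁻¹ * (1 - g + g ^ 2)) • w := by
    rw [hu, hy, avg_proj_two, ← Finset.add_sum_erase Finset.univ _ (Finset.mem_univ (0 : F)), h00, mul_zero,
      neg_zero, AddChar.map_zero_eq_one, one_smul,
      Finset.sum_congr rfl fun s h => (by
        rw [sum_avg_line hψ (Finset.ne_of_mem_erase h) hw (h1v s (Finset.ne_of_mem_erase h)) hμ.symm] :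
        ψ (-(a * s)) • ((Fintype.card F : ℂ)⁻¹ • ∑ t : F, avg ρ ψ (ρ (xr 1 s) (ρ (xr 0 t) w))) =
        ψ (-(a * s)) • ((Fintype.card F : ℂ)⁻¹ • (g * μ * (Fintype.card F : ℂ)) • proj ρ ψ (xr 5) l v)),
      ← Finset.sum_smul, sum_erase_char hψ ha, ← hβ, smul_smul, smul_smul, smul_smul, ← add_smul, smul_smul]
    congr 1
    field_simp
    linear_combination -g * hco
  rw [hmem, map_zero] at havg
  rcases smul_eq_zero.1 havg.symm with h | h
  · have h2 : 1 - g + g ^ 2 = 0 := by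
      rcases mul_eq_zero.1 h with h | h
      · exact absurd h (mul_ne_zero (inv_ne_zero hq) (inv_ne_zero hq))
      · exact h
    have hgq : g = (Fintype.card F : ℂ) + 1 := by linear_combination hg - (Fintype.card F : ℂ) * h2
    rw [hgq] at h2
    have hn : ((Fintype.card F ^ 2 + Fintype.card F + 1 : ℕ) : ℂ) = 0 := by
      push_cast
      linear_combination h2
    exact Nat.succ_ne_zero _ (Nat.cast_eq_zero.1 hn)
  · exact hw0 h

/-- A line fixed by the positive part: the degree is large. -/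
theorem spherical_bound (hψ : ψ.IsPrimitive) (h3 : (3 : F) ≠ 0) (h4 : 4 < Fintype.card F) (hm : mm ρ ψ = 1)
    (hq : Fintype.card F % 3 = 1) (hR : finrank ℂ (wt ρ ψ [6, 10, 11] []) = 1)
    (hline : ∀ a : F, a ≠ 0 → finrank ℂ (wt ρ ψ [10, 11] [(6, a)]) = 1) :
    Fintype.card F ^ 3 + 1 ≤ finrank ℂ V := by
  classical
  haveI : Fact (Nat.Prime 3) := ⟨Nat.prime_three⟩
  obtain ⟨ω, hω, hω1⟩ := exists_cube_root hq
  have hψ3 : (ZMod.stdAddChar (N := 3)).IsPrimitive := ZMod.isPrimitive_stdAddChar 3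
  obtain ⟨v, g, hv, hv0, hg, h5v, h1v⟩ := exists_coef (ρ := ρ) hψ hR
  have hl5 := fun (l : F) (hl : l ≠ 0) => five_line (ρ := ρ) hψ hline hl
  obtain ⟨ε, hε⟩ := exists_eig hψ3 (W := wt ρ ψ [10, 11] [(5, (1 : F))])
    (h_wt (hω := hω) (ks := [5]) rfl (by rfl) (by decide +kernel)) fun e => by
      have := hl5 1 one_ne_zero; rw [e, finrank_bot] at this; omega
  obtain ⟨w1, hw1, hw10⟩ := Submodule.exists_mem_ne_zero_of_ne_bot hε
  have hex : ∀ l : F, l ≠ 0 → ∃ w ∈ wt ρ ψ [10, 11] [(5, l)], w ≠ 0 ∧ w ∈ Hs ω hω ρ ε := by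
    intro l hl
    have hp : (TG).pair 11 5 = -1 := by decide +kernel
    refine ⟨ρ (tor 11 (Units.mk0 l hl)) w1, ?_, fun e => hw10 (map_injective (ρ := ρ) _ (e.trans (map_zero _).symm)),
      fun t => ?_⟩
    · have := tor_wt (show 11 < 12 by norm_num) (Units.mk0 l hl) (L := [(5, (1 : F))]) (by rfl) (by simp) hw1.1
      simpa [hp] using this
    · show ρ (tor 9 (ω ^ t.val)) _ = _
      rw [act_mul, tor_comm (by norm_num) (by norm_num), ← act_mul]
      exact (congrArg (ρ (tor 11 _)) (hw1.2 t)).trans (map_smul _ _ _)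
  let W := fun a b => piece ρ ψ ω hω ε a b
  have hbase : ∀ a : F, a ≠ 0 → Fintype.card F - 1 ≤ finrank ℂ (W a 0) := by
    intro a ha
    have hst : Stable ρ (xr 5) (W a 0) := fun t x hx => by
      have h0 : x ∈ eig ρ ψ (xr 0) 0 := hx.1.2
      refine ⟨⟨Hs_stable (by decide +kernel) ε hx.1.1 t, ?_⟩, ?_⟩
      · exact keep (p := 0) Nat.cast_zero (Z := []) (by decide +kernel) (by simp) h0
      · exact keep (p := 0) Nat.cast_zero (Z := [0]) (by decide +kernel)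
          (fun z hz => by rw [List.mem_singleton] at hz; subst hz; exact h0) hx.2
    have := card_mul_le hψ hst ((Finset.univ : Finset F).erase 0) (d := 1) fun l hl => by
      obtain ⟨w, hw, hw0, hwH⟩ := hex l (Finset.ne_of_mem_erase hl)
      exact Submodule.one_le_finrank_iff.2 (exists_piece hψ hv hv0 hg h5v h1v hR ha (Finset.ne_of_mem_erase hl)
        (hl5 l (Finset.ne_of_mem_erase hl)) hw hw0 hwH)
    rwa [MinDegG2.card_erase, mul_one] at this
  have hsix : ∀ a b : F, a ≠ 0 → Fintype.card F - 1 ≤ finrank ℂ (W a b) := by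
    intro a b ha
    refine (hbase a ha).trans (finrank_le_of_map (xr 6 (b / a)) fun x hx =>
      ⟨⟨Hs_stable (by decide +kernel) ε hx.1.1 _, ?_⟩,
        keep (p := 0) Nat.cast_zero (Z := []) (by decide +kernel) (by simp) hx.2⟩)
    have h1 : x ∈ eig ρ ψ (xr 1) a := hx.2
    have := shift (ρ := ρ) (ψ := ψ) (r := 6) (s := 0) (by norm_num) (by norm_num) (by decide +kernel) (b / a)
      (fun _ => a) (a := 0) (β := b) (fun c hc => by
        rw [ct_6_0, List.mem_singleton] at hc; subst hc; exact Or.inr h1) (hx.1.2 : x ∈ eig ρ ψ (xr 0) 0)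
      (fun u => by simp [ct_6_0]; field_simp)
    rwa [zero_add] at this
  have hall : ∀ a b : F, b ≠ 0 → Fintype.card F - 1 ≤ finrank ℂ (W a b) := by
    intro a b hb
    refine (hsix 1 b one_ne_zero).trans (finrank_le_of_map (xr 5 ((a - 1) / b)) fun x hx =>
      ⟨⟨Hs_stable (by decide +kernel) ε hx.1.1 _,
        keep (p := 0) Nat.cast_zero (Z := []) (by decide +kernel) (by simp) hx.1.2⟩, ?_⟩)
    have h0 : x ∈ eig ρ ψ (xr 0) b := hx.1.2
    have := shift (ρ := ρ) (ψ := ψ) (r := 5) (s := 1) (by norm_num) (by norm_num) (by decide +kernel)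
      ((a - 1) / b) (fun _ => b) (a := 1) (β := a - 1) (fun c hc => by
        rw [ct_5_1, List.mem_singleton] at hc; subst hc; exact Or.inr h0) (hx.2 : x ∈ eig ρ ψ (xr 1) 1)
      (fun u => by simp [ct_5_1]; field_simp)
    rwa [add_sub_cancel] at this
  have hst1 : ∀ b : F, Stable ρ (xr 1) (Hs ω hω ρ ε ⊓ eig ρ ψ (xr 0) b) := fun b t x hx =>
    ⟨Hs_stable (by decide +kernel) ε hx.1 t,
      keep (p := 0) Nat.cast_zero (Z := []) (by decide +kernel) (by simp) hx.2⟩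
  have hpos : ∀ b : F, b ≠ 0 →
      Fintype.card F * (Fintype.card F - 1) ≤ finrank ℂ ↥(Hs ω hω ρ ε ⊓ eig ρ ψ (xr 0) b) := fun b hb => by
    have := card_mul_le hψ (hst1 b) (Finset.univ : Finset F) fun a _ => hall a b hb
    rwa [Finset.card_univ] at this
  have hzero : (Fintype.card F - 1) * (Fintype.card F - 1) ≤
      finrank ℂ ↥(Hs ω hω ρ ε ⊓ eig ρ ψ (xr 0) 0) := card_eig hψ (hst1 0) hbase
  have hH := finrank_eq_sum (ρ := ρ) (x := xr 0) hψ (W := Hs ω hω ρ ε)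
    fun t x hx => Hs_stable (by decide +kernel) ε hx t
  rw [← Finset.add_sum_erase Finset.univ _ (Finset.mem_univ (0 : F))] at hH
  have h0 := Finset.card_nsmul_le_sum ((Finset.univ : Finset F).erase 0) _ _ fun b hb =>
    hpos b (Finset.ne_of_mem_erase hb)
  rw [MinDegG2.card_erase, smul_eq_mul] at h0
  have hHε : (Fintype.card F - 1) * (Fintype.card F - 1) +
      (Fintype.card F - 1) * (Fintype.card F * (Fintype.card F - 1)) ≤ finrank ℂ (Hs ω hω ρ ε) :=
    (Nat.add_le_add hzero h0).trans (le_of_eq hH.symm)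
  have hsum := finrank_eq_sum (ρ := ρ) (x := hchar ω hω) hψ3 (W := ⊤) fun _ _ _ => trivial
  have eTop : ∀ i : ZMod 3, finrank ℂ ↥((⊤ : Submodule ℂ V) ⊓ eig ρ ZMod.stdAddChar (hchar ω hω) i) =
      finrank ℂ (Hs ω hω ρ i) := fun i => by rw [top_inf_eq]; rfl
  simp only [finrank_top, eTop] at hsum
  rw [← Finset.add_sum_erase Finset.univ _ (Finset.mem_univ ε)] at hsum
  have h2 := Finset.card_nsmul_le_sum ((Finset.univ : Finset (ZMod 3)).erase ε) _ _ fun i _ =>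
    Hs_big (ρ := ρ) (hω := hω) hψ h3 hm hω1 i
  rw [Finset.card_erase_of_mem (Finset.mem_univ _), Finset.card_univ, ZMod.card, smul_eq_mul] at h2
  have h5 := (Nat.add_le_add hHε h2).trans (le_of_eq hsum.symm)
  generalize Fintype.card F = q at *
  obtain ⟨p, rfl⟩ : ∃ p, q = p + 5 := ⟨q - 5, by omega⟩
  simp only [show p + 5 - 1 = p + 4 by omega, show (3 : ℕ) - 1 = 2 from rfl] at h5
  nlinarith

end CfsgLib.KnownB.MinDegG2
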