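import Cfsg.Agent.Lib.KnownB.MinDegG2.Small

/-!
Characteristic three: the multiplicities over the pieces of the highest root.
-/

set_option autoImplicit false
set_option maxRecDepth 20000
set_option linter.unusedSectionVars false

noncomputable section

namespace CfsgLib.KnownB.MinDegG2

open CfsgLib.Chevalley CfsgLib.Chevalley.Tbl CfsgLib.KnownA.MinDeg
open Module (finrank)

local notation "TG" => Data.G2.tbl

variable {F : Type*} [Field F] [Fintype F]
variable {V : Type*} [AddCommGroup V] [Module ℂ V] [FiniteDimensional ℂ V]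
variable {ρ : Representation ℂ (Gd F) V} {ψ : AddChar F ℂ}

theorem ct_7_8 : (TG).commT 7 8 = [(9, -2, 1, 1), (10, -3, 2, 1), (11, 3, 1, 2)] := by decide +kernel

theorem ct_4_9 : (TG).commT 4 9 = [(8, -2, 1, 1), (6, 3, 2, 1), (11, -3, 1, 2)] := by decide +kernel

theorem ct_6_7 :
    (TG).commT 6 7 = [(8, 1, 1, 1), (9, 1, 1, 2), (10, -1, 1, 3), (11, -2, 2, 3)] := by decide +kernel

theorem cast3 (h3 : (3 : F) = 0) : ((3 : ℕ) : F) = 0 := by exact_mod_cast h3

theorem two_ne (h3 : (3 : F) = 0) : (2 : F) ≠ 0 := fun h =>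
  one_ne_zero (α := F) (by linear_combination h3 - h)

theorem cube_surj (h3 : (3 : F) = 0) (x : F) : ∃ t : F, t ^ 3 = x := by
  refine Finite.injective_iff_surjective.1 (fun a b (h : a ^ 3 = b ^ 3) => sub_eq_zero.1 ?_) x
  have : (a - b) ^ 3 = 0 := by linear_combination h - (a * b * (a - b)) * h3
  exact pow_eq_zero_iff (by norm_num) |>.1 this

/-- The piece of the highest root with prescribed eigenvalues at the two short roots above. -/
def MM (ρ : Representation ℂ (Gd F) V) (ψ : AddChar F ℂ) (j k n : F) : ℕ :=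
  finrank ℂ (wt ρ ψ [] [(8, j), (9, k), (11, n)])

/-- The multiplicity of the nontrivial pairs. -/
abbrev cc (ρ : Representation ℂ (Gd F) V) (ψ : AddChar F ℂ) : ℕ :=
  finrank ℂ (wt ρ ψ [10] [(8, (0 : F)), (9, (1 : F)), (11, (1 : F))])

/-- The multiplicity of the trivial pair. -/
abbrev c0 (ρ : Representation ℂ (Gd F) V) (ψ : AddChar F ℂ) : ℕ :=
  finrank ℂ (wt ρ ψ [10] [(8, (0 : F)), (9, (0 : F)), (11, (1 : F))])

theorem step_ten_six (hψ : ψ.IsPrimitive) {n : F} (hn : n ≠ 0) (j k : F) :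
    MM ρ ψ j k n = Fintype.card F * finrank ℂ (wt ρ ψ [10] [(8, j), (9, k), (11, n)]) := by
  rw [MM, split_trans hψ (p := 0) Nat.cast_zero (ks := [8, 9, 11]) 10 (by decide +kernel) rfl (fun a b => ?_) 0,
    wt_zero_cons]
  refine ⟨xr 6 ((a - b) / n), fun v hv => mem_wt.2 ⟨by simp, List.forall_mem_cons.2 ⟨?_, fun p hp => ?_⟩⟩⟩
  · have h11 : v ∈ eig ρ ψ (xr 11) n := wt_L hv (by simp)
    have h10 : v ∈ eig ρ ψ (xr 10) a := wt_L hv (by simp)
    have := shift (ρ := ρ) (ψ := ψ) (r := 6) (s := 10) (by norm_num) (by norm_num) (by decide +kernel)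
      ((a - b) / n) (fun _ => n) (a := a) (β := b - a) (v := v) (fun c hc => ?_) h10 (fun u => ?_)
    · rwa [add_sub_cancel] at this
    · rw [ct_6_10, List.mem_singleton] at hc
      subst hc
      exact Or.inr h11
    · simp [ct_6_10]
      field_simp
      ring
  · have hk : okc 0 [] 6 p.1 = true := by
      simp only [List.mem_cons, List.not_mem_nil, or_false] at hp
      rcases hp with rfl | rfl | rfl <;> dsimp only <;> decide +kernel
    exact keep (p := 0) Nat.cast_zero (Z := []) (r := 6) hk (by simp) (hv.2 p (List.mem_cons_of_mem _ hp))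

theorem move_eight (h3 : (3 : F) = 0) {j j' k n : F} (hk : k ≠ 0) : MM ρ ψ j k n ≤ MM ρ ψ j' k n := by
  have h2 := two_ne h3
  refine finrank_le_of_map (ρ := ρ) (xr 7 ((j' - j) / (2 * k))) fun v hv => mem_wt.2 ⟨by simp,
    List.forall_mem_cons.2 ⟨?_, fun p hp => ?_⟩⟩
  · have h9 : v ∈ eig ρ ψ (xr 9) k := wt_L hv (by simp)
    have := shift (ρ := ρ) (ψ := ψ) (r := 7) (s := 8) (by norm_num) (by norm_num) (by decide +kernel)
      ((j' - j) / (2 * k)) (fun c => if c = 9 then k else 0) (a := j) (β := j' - j) (v := v) (fun c hc => ?_)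
      (wt_L hv (by simp)) (fun u => ?_)
    · rwa [add_sub_cancel] at this
    · rw [ct_7_8] at hc
      simp only [List.mem_cons, List.not_mem_nil, or_false] at hc
      rcases hc with rfl | rfl | rfl
      · exact Or.inr (by simpa using h9)
      all_goals exact Or.inl (by simp [h3])
    · simp [ct_7_8]
      field_simp
  · have hk : okc 3 [] 7 p.1 = true := by
      simp only [List.mem_cons, List.not_mem_nil, or_false] at hp
      rcases hp with rfl | rfl <;> dsimp only <;> decide +kernel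
    exact keep (cast3 h3) (Z := []) (r := 7) hk (by simp) (hv.2 p (List.mem_cons_of_mem _ hp))

theorem move_nine (h3 : (3 : F) = 0) {j k k' n : F} (hj : j ≠ 0) : MM ρ ψ j k n ≤ MM ρ ψ j k' n := by
  have h2 := two_ne h3
  refine finrank_le_of_map (ρ := ρ) (xr 4 ((k' - k) / (2 * j))) fun v hv => mem_wt.2 ⟨by simp, fun p hp => ?_⟩
  simp only [List.mem_cons, List.not_mem_nil, or_false] at hp
  rcases hp with rfl | rfl | rfl
  · exact keep (cast3 h3) (Z := []) (r := 4) (show okc 3 [] 4 8 = true by decide +kernel) (by simp)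
      (wt_L hv (by simp))
  · have h8 : v ∈ eig ρ ψ (xr 8) j := wt_L hv (by simp)
    have := shift (ρ := ρ) (ψ := ψ) (r := 4) (s := 9) (by norm_num) (by norm_num) (by decide +kernel)
      ((k' - k) / (2 * j)) (fun c => if c = 8 then j else 0) (a := k) (β := k' - k) (v := v) (fun c hc => ?_)
      (wt_L hv (by simp)) (fun u => ?_)
    · rwa [add_sub_cancel] at this
    · rw [ct_4_9] at hc
      simp only [List.mem_cons, List.not_mem_nil, or_false] at hc
      rcases hc with rfl | rfl | rfl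
      · exact Or.inr (by simpa using h8)
      all_goals exact Or.inl (by simp [h3])
    · simp [ct_4_9]
      field_simp
  · exact keep (cast3 h3) (Z := []) (r := 4) (show okc 3 [] 4 11 = true by decide +kernel) (by simp)
      (wt_L hv (by simp))

theorem MM_eq (h3 : (3 : F) = 0) {j k j' k' n : F} (h : j ≠ 0 ∨ k ≠ 0) (h' : j' ≠ 0 ∨ k' ≠ 0) :
    MM ρ ψ j k n = MM ρ ψ j' k' n := by
  suffices key : ∀ j k : F, (j ≠ 0 ∨ k ≠ 0) → MM ρ ψ j k n = MM ρ ψ 0 1 n from
    (key j k h).trans (key j' k' h').symm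
  intro j k h
  have e8 : ∀ a a' b : F, b ≠ 0 → MM ρ ψ a b n = MM ρ ψ a' b n := fun a a' b hb =>
    le_antisymm (move_eight h3 hb) (move_eight h3 hb)
  have e9 : ∀ a b b' : F, a ≠ 0 → MM ρ ψ a b n = MM ρ ψ a b' n := fun a b b' ha =>
    le_antisymm (move_nine h3 ha) (move_nine h3 ha)
  by_cases hk : k = 0
  · have hj : j ≠ 0 := h.resolve_right (not_not.2 hk)
    rw [e9 j k 1 hj, e8 j 0 1 one_ne_zero]
  · rw [e8 j 1 k hk, e9 1 k 1 one_ne_zero, e8 1 0 1 one_ne_zero]

theorem eleven_pair (hψ : ψ.IsPrimitive) (h3 : (3 : F) = 0) {j k n : F} (hn : n ≠ 0) (h : j ≠ 0 ∨ k ≠ 0) :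
    finrank ℂ (wt ρ ψ [10] [(8, j), (9, k), (11, n)]) = cc ρ ψ := by
  have hd : ∀ n n' : F, n ≠ 0 → n' ≠ 0 → MM ρ ψ 0 1 n ≤ MM ρ ψ 0 1 n' := by
    intro n n' hn hn'
    set c : Fˣ := Units.mk0 (n / n') (div_ne_zero hn hn') with hc
    have hp : (TG).pair 6 11 = 1 := by decide +kernel
    refine le_trans (finrank_le_of_map (ρ := ρ)
      (B := wt ρ ψ [] [(8, 0 / ((c ^ (TG).pair 6 8 : Fˣ) : F)), (9, 1 / ((c ^ (TG).pair 6 9 : Fˣ) : F)), (11, n')])
      (tor 6 c) fun v hv => ?_) (MM_eq h3 (Or.inr (div_ne_zero one_ne_zero (Units.ne_zero _))) (Or.inr one_ne_zero)).le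
    have := tor_wt (show 6 < 12 by norm_num) c (L := [(8, (0 : F)), (9, 1), (11, n)]) (by rfl) (by simp) hv
    simp only [List.map_cons, List.map_nil] at this
    have e : n / ((c ^ (TG).pair 6 11 : Fˣ) : F) = n' := by
      rw [hp, zpow_one, hc, Units.val_mk0, div_div_cancel₀ hn]
    rwa [e] at this
  refine Nat.eq_of_mul_eq_mul_left Fintype.card_pos (((step_ten_six hψ hn j k).symm.trans ?_).trans
    (step_ten_six hψ one_ne_zero 0 1))
  rw [MM_eq h3 h (Or.inr one_ne_zero)]
  exact le_antisymm (hd _ _ hn one_ne_zero) (hd _ _ one_ne_zero hn)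

theorem eleven_zero {n : F} (hn : n ≠ 0) :
    finrank ℂ (wt ρ ψ [10] [(8, (0 : F)), (9, (0 : F)), (11, n)]) = c0 ρ ψ := by
  rw [c0, wt_zero_cons, wt_zero_cons, wt_zero_cons, wt_zero_cons]
  exact finrank_scale (d := 6) (by decide +kernel) (by rfl) (by simp) hn one_ne_zero

theorem refl_facts : (TG).refl 1 8 = 7 ∧ (TG).refl 1 7 = 8 ∧ (TG).refl 1 9 = 9 ∧ (TG).refl 1 10 = 11 ∧
    (TG).refl 1 11 = 10 := by decide +kernel

/-- The distribution above the root `10`. -/
theorem ten_pair [DecidableEq F] (hψ : ψ.IsPrimitive) (h3 : (3 : F) = 0) {j k l : F} (hl : l ≠ 0) :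
    finrank ℂ (wt ρ ψ [11] [(7, j), (9, k), (10, l)]) = if j = 0 ∧ k = 0 then c0 ρ ψ else cc ρ ψ := by
  classical
  have he : ∀ r, r < 12 → ((TG).eta 1 r : F) ≠ 0 := fun r hr => eta_ne (by norm_num) hr
  have h1 : finrank ℂ (wt ρ ψ [11] [(7, j), (9, k), (10, l)]) ≤ finrank ℂ (wt ρ ψ [10]
      [(8, j / ((TG).eta 1 7 : F)), (9, k / ((TG).eta 1 9 : F)), (11, l / ((TG).eta 1 10 : F))]) :=
    finrank_nG (i := 1) (by norm_num) (by rfl) (by simp) (by decide +kernel)
      (by simp [refl_facts.2.1, refl_facts.2.2.1, refl_facts.2.2.2.1])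
  have h2 : finrank ℂ (wt ρ ψ [10]
      [(8, j * ((TG).eta 1 8 : F)), (9, k * ((TG).eta 1 9 : F)), (11, l * ((TG).eta 1 11 : F))]) ≤
        finrank ℂ (wt ρ ψ [11] [(7, j), (9, k), (10, l)]) :=
    finrank_nG (i := 1) (by norm_num) (by rfl) (by simp) (by decide +kernel)
      (by simp [refl_facts.1, refl_facts.2.2.1, refl_facts.2.2.2.2, he 8, he 9, he 11])
  have h7 := he 7 (by norm_num)
  have h8 := he 8 (by norm_num)
  have h9 := he 9 (by norm_num)
  have hl1 := div_ne_zero hl (he 10 (by norm_num))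
  have hl2 := mul_ne_zero hl (he 11 (by norm_num))
  split_ifs with h
  · obtain ⟨rfl, rfl⟩ := h
    rw [zero_div, zero_div, eleven_zero hl1] at h1
    rw [zero_mul, zero_mul, eleven_zero hl2] at h2
    exact le_antisymm h1 h2
  · rw [not_and_or] at h
    rw [eleven_pair hψ h3 hl1 (h.imp (fun x => div_ne_zero x h7) fun x => div_ne_zero x h9)] at h1
    rw [eleven_pair hψ h3 hl2 (h.imp (fun x => mul_ne_zero x h8) fun x => mul_ne_zero x h9)] at h2
    exact le_antisymm h1 h2

theorem ten_nine (hψ : ψ.IsPrimitive) (h3 : (3 : F) = 0) {k l : F} (hl : l ≠ 0) (hk : k ≠ 0) :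
    finrank ℂ (wt ρ ψ [11] [(9, k), (10, l)]) = Fintype.card F * cc ρ ψ := by
  classical
  rw [finrank_eq_sum hψ (x := xr 7) (stable_of_pres (cast3 h3) (ks := [9, 10]) (by decide +kernel) rfl),
    Finset.sum_congr rfl fun j _ => (by rw [← wt_cons, ten_pair hψ h3 hl, if_neg (fun h => hk h.2)] :
      finrank ℂ ↥(wt ρ ψ [11] [(9, k), (10, l)] ⊓ eig ρ ψ (xr 7) j) = cc ρ ψ),
    Finset.sum_const, Finset.card_univ, smul_eq_mul]

/-- The part fixed by the root `9` above the root `10`. -/
theorem ten_X (hψ : ψ.IsPrimitive) (h3 : (3 : F) = 0) {l : F} (hl : l ≠ 0) :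
    finrank ℂ (wt ρ ψ [9, 11] [(10, l)]) = c0 ρ ψ + (Fintype.card F - 1) * cc ρ ψ := by
  classical
  rw [← wt_zero_cons, split_const hψ (cast3 h3) (ks := [9, 10]) 7 (by decide +kernel) rfl (fun j hj => by
    rw [ten_pair hψ h3 hl, if_neg (fun h => hj h.1)]), ← wt_zero_cons, ten_pair hψ h3 hl, if_pos ⟨rfl, rfl⟩]

theorem mw_three (hψ : ψ.IsPrimitive) (h3 : (3 : F) = 0) :
    mw ρ ψ = c0 ρ ψ + (Fintype.card F * Fintype.card F - 1) * cc ρ ψ := by
  show finrank ℂ (wt ρ ψ [11] [(10, (1 : F))]) = _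
  rw [split_const hψ (cast3 h3) (ks := [10]) 9 (by decide +kernel) rfl (fun k hk => ten_nine hψ h3 one_ne_zero hk),
    ten_X hψ h3 one_ne_zero]
  obtain ⟨p, hp⟩ : ∃ p, Fintype.card F = p + 1 :=
    ⟨Fintype.card F - 1, by have := Fintype.card_pos (α := F); omega⟩
  rw [hp, Nat.add_sub_cancel, show (p + 1) * (p + 1) - 1 = p + p * (p + 1) by
    rw [Nat.add_one_mul, Nat.mul_add_one]; omega]
  ring

/-- The two short roots do not both act trivially. -/
theorem cc_pos [ρ.IsIrreducible] (hk : 2 ≤ finrank ℂ V) (hψ : ψ.IsPrimitive) (h3 : (3 : F) = 0)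
    (h4 : 4 < Fintype.card F) : cc ρ ψ ≠ 0 := by
  classical
  intro h0
  have hm := mw_three (ρ := ρ) (V := V) hψ h3
  rw [h0, mul_zero, add_zero] at hm
  have hmw := mw_pos (ρ := ρ) hk hψ (by omega)
  have hW : wt ρ ψ [11] [(10, (1 : F))] ≤ wt ρ ψ [7, 9, 11] [(10, (1 : F))] := by
    refine (Submodule.eq_of_le_of_finrank_le (wt_mono (by simp) fun _ h => h) ?_).ge
    show mw ρ ψ ≤ _
    have := ten_pair (ρ := ρ) (j := 0) (k := 0) hψ h3 (one_ne_zero (α := F))
    rw [if_pos ⟨rfl, rfl⟩, wt_zero_cons, wt_zero_cons] at this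
    rw [hm, ← this]
    exact Submodule.finrank_mono (wt_mono (by simp) fun _ h => h)
  have hst : Stable ρ (xr 8) (wt ρ ψ [11] [(10, (1 : F))]) :=
    stable_of_pres (cast3 h3) (ks := [10]) (by decide +kernel) rfl
  have hne : wt ρ ψ [11] [(10, (1 : F))] ≠ ⊥ := fun e => hmw (by
    show finrank ℂ (wt ρ ψ [11] [(10, (1 : F))]) = 0
    rw [e, finrank_bot])
  obtain ⟨j, hj⟩ := exists_eig hψ hst hne
  obtain ⟨v, hv, hv0⟩ := Submodule.exists_mem_ne_zero_of_ne_bot hj
  have hv' := hW hv.1
  have hfix : ∀ w ∈ wt ρ ψ [11] [(10, (1 : F))], ∀ t, ρ (xr 7 t) w = w := fun w hw =>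
    (mem_eig_zero _ _ _).1 (wt_Z (hW hw) (by simp))
  have key : ∀ t : F, j * t - t ^ 3 = 0 := by
    intro t
    by_contra hne
    refine hψ hne (DFunLike.ext _ _ fun u => ?_)
    rw [AddChar.mulShift_apply, AddChar.one_apply]
    have e := act_comm (ρ := ρ) (ψ := ψ) (r := 7) (s := 6) (by norm_num) (by norm_num) (by decide +kernel) t u
      (fun c => if c = 8 then j else if c = 10 then 1 else 0) (v := v) (fun c hc => by
        rw [ct_7_6] at hc
        simp only [List.mem_cons, List.not_mem_nil, or_false] at hc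
        right
        rcases hc with rfl | rfl | rfl | rfl
        · simpa using hv.2
        · simpa using wt_Z hv' (z := 9) (by simp)
        · simpa using wt_L hv' (s := 10) (a := (1 : F)) (by simp)
        · simpa using wt_Z hv' (z := 11) (by simp))
    have hu : ρ (xr 6 u) v ∈ wt ρ ψ [11] [(10, (1 : F))] :=
      pres_mem (cast3 h3) (ks := [10]) (by decide +kernel) rfl hv.1 u
    rw [hfix v hv.1 t, hfix _ hu t] at e
    simp [ct_7_6] at e
    conv_lhs at e => rw [← one_smul ℂ (ρ (xr 6 u) v)]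
    have := smul_left_injective ℂ (fun h => hv0 (map_injective (ρ := ρ) (xr 6 u) (h.trans (map_zero _).symm))) e
    rw [this]
    congr 1
    ring
  obtain ⟨c, hc⟩ := exists_pow_ne (F := F) (k := 2) (by norm_num) (by omega)
  refine hc (Units.ext ?_)
  have h1 := key 1
  have h2 := key c
  have : (c : F) * ((c : F) ^ 2 - 1) = 0 := by linear_combination (c : F) * h1 - h2
  rcases mul_eq_zero.1 this with h | h
  · exact absurd h c.ne_zero
  · push_cast
    linear_combination h

/-- With one nontrivial pair, the trivial pair occurs once. -/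
theorem c0_eq (hψ : ψ.IsPrimitive) (h3 : (3 : F) = 0) (h9 : 9 ≤ Fintype.card F) (hc : cc ρ ψ = 1)
    (h0 : c0 ρ ψ ≤ 3) :
    c0 ρ ψ = 1 ∧ ∀ l : F, l ≠ 0 →
      wt ρ ψ [9, 11] [(10, l)] ≤ eig ρ ψ (xr 8) 0 ∧ finrank ℂ (wt ρ ψ [6, 8, 9, 11] [(10, l)]) = 1 := by
  classical
  have hD : ∀ {l : F}, l ≠ 0 → finrank ℂ (wt ρ ψ [9, 11] [(10, l)]) = c0 ρ ψ + (Fintype.card F - 1) := fun hl => by
    rw [ten_X hψ h3 hl, hc, mul_one]
  have h8 : ∀ l : F, l ≠ 0 → wt ρ ψ [9, 11] [(10, l)] ≤ eig ρ ψ (xr 8) 0 := by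
    intro l hl
    refine le_eig_zero hψ (stable_of_pres (cast3 h3) (ks := [10]) (by decide +kernel) rfl) fun j hj => ?_
    rw [← wt_cons]
    by_contra hne
    have hst6 : ∀ i : F, Stable ρ (xr 6) (wt ρ ψ [9, 11] [(8, i), (10, l)]) := fun i =>
      stable_of_pres (cast3 h3) (ks := [8, 10]) (by decide +kernel) rfl
    obtain ⟨a, ha⟩ := exists_eig hψ (hst6 j) hne
    obtain ⟨v, hv, hv0⟩ := Submodule.exists_mem_ne_zero_of_ne_bot ha
    -- the eigenvalues at the root 6
    have hmove : ∀ t : F, ρ (xr 7 t) v ∈ wt ρ ψ [9, 11] [(8, j), (10, l)] ⊓ eig ρ ψ (xr 6) (a + (j * t - l * t ^ 3)) := by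
      intro t
      refine ⟨pres_mem (cast3 h3) (ks := [8, 10]) (by decide +kernel) rfl hv.1 t, ?_⟩
      refine shift (ρ := ρ) (ψ := ψ) (r := 7) (s := 6) (by norm_num) (by norm_num) (by decide +kernel)
        t (fun c => if c = 8 then j else if c = 10 then l else 0) (fun c hc => ?_) hv.2 (fun u => ?_)
      · rw [ct_7_6] at hc
        simp only [List.mem_cons, List.not_mem_nil, or_false] at hc
        right
        rcases hc with rfl | rfl | rfl | rfl
        · simpa using wt_L hv.1 (s := 8) (a := j) (by simp)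
        · simpa using wt_Z hv.1 (z := 9) (by simp)
        · simpa using wt_L hv.1 (s := 10) (a := l) (by simp)
        · simpa using wt_Z hv.1 (z := 11) (by simp)
      · simp [ct_7_6]
        ring
    set S := (Finset.univ : Finset F).image fun t => a + (j * t - l * t ^ 3) with hS
    have hS1 : Fintype.card F ≤ 3 * S.card := by
      refine Finset.card_le_mul_card_image _ 3 fun b _ => ?_
      let P : Polynomial F :=
        Polynomial.C (-l) * Polynomial.X ^ 3 + (Polynomial.C j * Polynomial.X + Polynomial.C (a - b))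
      have hdeg : P.natDegree ≤ 3 := by simp only [P]; compute_degree
      have hP : P ≠ 0 := fun e => hl (by
        have := congrArg (fun Q => Polynomial.coeff Q 3) e
        simpa [P, Polynomial.coeff_X, Polynomial.coeff_C] using this)
      refine le_trans (Polynomial.card_le_degree_of_subset_roots (p := P) fun t ht => ?_) hdeg
      simp only [Finset.mem_val, Finset.mem_filter, Finset.mem_univ, true_and] at ht
      rw [Polynomial.mem_roots hP]
      simp [P, ← ht]
    have hS2 : S.card ≤ finrank ℂ (wt ρ ψ [9, 11] [(8, j), (10, l)]) := by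
      have := card_mul_le hψ (hst6 j) S (d := 1) fun b hb => ?_
      · rwa [mul_one] at this
      · obtain ⟨t, -, rfl⟩ := Finset.mem_image.1 hb
        exact Submodule.one_le_finrank_iff.2 fun e => hv0 (map_injective (ρ := ρ) (xr 7 t) (by
          have := hmove t
          rw [e, Submodule.mem_bot] at this
          rw [this, map_zero]))
    set T := (Finset.univ : Finset Fˣ).image fun c : Fˣ => j / (c : F) ^ 2 with hT
    have hT1 : Fintype.card F - 1 ≤ 2 * T.card := by
      rw [← Fintype.card_units, ← Finset.card_univ]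
      refine Finset.card_le_mul_card_image _ 2 fun b hb => ?_
      obtain ⟨c, -, rfl⟩ := Finset.mem_image.1 hb
      refine le_trans (Finset.card_le_card (t := {c, -c}) fun d hd => ?_) Finset.card_le_two
      simp only [Finset.mem_filter, Finset.mem_univ, true_and] at hd
      rw [div_eq_mul_inv, div_eq_mul_inv, mul_right_inj' hj, inv_inj] at hd
      rcases sq_eq_sq_iff_eq_or_eq_neg.1 hd with h | h
      · simp [Units.ext h]
      · simp [show d = -c from Units.ext (by simpa using h)]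
    have hp : (TG).pair 8 8 = 2 ∧ (TG).pair 8 10 = 0 := by decide +kernel
    have hTd := card_mul_le hψ (stable_of_pres (ρ := ρ) (ψ := ψ) (cast3 h3) (L := [(10, l)]) (ks := [10]) (s := 8)
      (show pres 3 [9, 11] [10] 8 = true by decide +kernel) rfl) T (d := S.card) fun i hi => ?_
    · rw [hD hl] at hTd
      have h6 : (Fintype.card F - 1) * Fintype.card F ≤ (2 * T.card) * (3 * S.card) := Nat.mul_le_mul hT1 hS1
      rw [show (2 * T.card) * (3 * S.card) = 6 * (T.card * S.card) by ring] at h6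
      generalize T.card * S.card = X at *
      have h7 : 8 * Fintype.card F ≤ (Fintype.card F - 1) * Fintype.card F := Nat.mul_le_mul_right _ (by omega)
      omega
    · obtain ⟨c, -, rfl⟩ := Finset.mem_image.1 hi
      refine hS2.trans (le_trans (finrank_le_of_map (ρ := ρ)
        (B := wt ρ ψ [9, 11] [(8, j / (c : F) ^ 2), (10, l)]) (tor 8 c) fun w hw => ?_) (le_of_eq ?_))
      · simpa [hp.1, hp.2] using tor_wt (show 8 < 12 by norm_num) c (L := [(8, j), (10, l)]) (by rfl) (by simp) hw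
      · rw [wt_cons]
  have hsix : ∀ l : F, l ≠ 0 → c0 ρ ψ + (Fintype.card F - 1) =
      Fintype.card F * finrank ℂ (wt ρ ψ [6, 8, 9, 11] [(10, l)]) := by
    intro l hl
    have e : wt ρ ψ [9, 11] [(10, l)] ≤ wt ρ ψ [8, 9, 11] [(10, l)] := fun v hv => mem_wt.2
      ⟨List.forall_mem_cons.2 ⟨h8 l hl hv, hv.1⟩, hv.2⟩
    have e' : finrank ℂ (wt ρ ψ [8, 9, 11] [(10, l)]) = c0 ρ ψ + (Fintype.card F - 1) := by
      rw [← hD hl]
      exact le_antisymm (Submodule.finrank_mono (wt_mono (fun z hz => List.mem_cons_of_mem _ hz) fun _ h => h))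
        (Submodule.finrank_mono e)
    rw [← e', split_trans hψ (cast3 h3) (ks := [10]) 6 (by decide +kernel) rfl (fun a b => ?_) 0, wt_zero_cons]
    obtain ⟨t, ht⟩ := cube_surj h3 ((a - b) / l)
    refine ⟨xr 7 t, fun v hv => mem_wt.2 ⟨fun z hz => ?_, List.forall_mem_cons.2 ⟨?_, fun p hp => ?_⟩⟩⟩
    · exact keep (cast3 h3) (Z := [9])
        (List.all_eq_true.1 (show [8, 9, 11].all (okc 3 [9] 7) = true by decide +kernel) z hz)
        (fun y hy => by rw [List.mem_singleton] at hy; subst hy; exact wt_Z hv (by simp)) (wt_Z hv hz)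
    · have := shift (ρ := ρ) (ψ := ψ) (r := 7) (s := 6) (by norm_num) (by norm_num) (by decide +kernel)
        t (fun c => if c = 10 then l else 0) (a := a) (β := b - a) (v := v) (fun c hc => ?_) (wt_L hv (by simp))
        (fun u => ?_)
      · rwa [add_sub_cancel] at this
      · rw [ct_7_6] at hc
        simp only [List.mem_cons, List.not_mem_nil, or_false] at hc
        right
        rcases hc with rfl | rfl | rfl | rfl
        · simpa using wt_Z hv (z := 8) (by simp)
        · simpa using wt_Z hv (z := 9) (by simp)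
        · simpa using wt_L hv (s := 10) (a := l) (by simp)
        · simpa using wt_Z hv (z := 11) (by simp)
      · simp [ct_7_6]
        have hb : l * t ^ 3 = a - b := by rw [ht]; field_simp
        linear_combination (-u) * hb
    · rw [List.mem_singleton] at hp
      subst hp
      exact keep (cast3 h3) (Z := []) (r := 7) (show okc 3 [] 7 10 = true by decide +kernel) (by simp)
        (wt_L hv (by simp))
  have h1 : ∀ l : F, l ≠ 0 → c0 ρ ψ = 1 ∧ finrank ℂ (wt ρ ψ [6, 8, 9, 11] [(10, l)]) = 1 := by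
    intro l hl
    have := hsix l hl
    generalize finrank ℂ (wt ρ ψ [6, 8, 9, 11] [(10, l)]) = m at *
    rcases Nat.lt_or_ge m 2 with hm | hm
    · interval_cases m <;> omega
    · have : Fintype.card F * 2 ≤ Fintype.card F * m := Nat.mul_le_mul_left _ hm
      omega
  exact ⟨(h1 1 one_ne_zero).1, fun l hl => ⟨h8 l hl, (h1 l hl).2⟩⟩

end CfsgLib.KnownB.MinDegG2
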