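import Cfsg.Agent.Lib.KnownB.MinDegG2.Three

/-!
Characteristic three: the vectors fixed by the two highest roots and the bound.
-/

set_option autoImplicit false
set_option maxRecDepth 20000
set_option linter.unusedSectionVars false

noncomputable section

namespace CfsgLib.KnownB.MinDegG2

open CfsgLib.Chevalley CfsgLib.Chevalley.Tbl CfsgLib.KnownA.MinDeg
open Module (finrank)

local notation "TG" => Data.G2.tbl

variable {F : Type*} [Field F] [Fintype F]
variable {V : Type*} [AddCommGroup V] [Module ℂ V] [FiniteDimensional ℂ V]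
variable {ρ : Representation ℂ (Gd F) V} {ψ : AddChar F ℂ}

theorem split_eight (hψ : ψ.IsPrimitive) (h3 : (3 : F) = 0) {Z : List ℕ} {ks : List ℕ} {L : List (ℕ × F)}
    {k : F} (hk : k ≠ 0) (hks : L.map Prod.fst = ks) (hk' : (9, k) ∈ L)
    (h : pres 3 Z ks 8 = true) (h' : pres 3 Z ks 7 = true) (a : F) :
    finrank ℂ (wt ρ ψ Z L) = Fintype.card F * finrank ℂ (wt ρ ψ Z ((8, a) :: L)) := by
  have h2 := two_ne h3
  refine split_trans hψ (cast3 h3) 8 h hks (fun a b => ?_) a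
  refine ⟨xr 7 ((b - a) / (2 * k)), fun v hv => ?_⟩
  have hv' : v ∈ wt ρ ψ Z L := wt_mono (fun _ h => h) (fun p hp => List.mem_cons_of_mem _ hp) hv
  rw [wt_cons]
  refine ⟨pres_mem (cast3 h3) h' hks hv' _, ?_⟩
  have := shift (ρ := ρ) (ψ := ψ) (r := 7) (s := 8) (by norm_num) (by norm_num) (by decide +kernel)
    ((b - a) / (2 * k)) (fun c => if c = 9 then k else 0) (a := a) (β := b - a) (v := v) (fun c hc => ?_)
    (wt_L hv (by simp)) (fun u => ?_)
  · rwa [add_sub_cancel] at this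
  · rw [ct_7_8] at hc
    simp only [List.mem_cons, List.not_mem_nil, or_false] at hc
    rcases hc with rfl | rfl | rfl
    · exact Or.inr (by simpa using wt_L hv' hk')
    all_goals exact Or.inl (by simp [h3])
  · simp [ct_7_8]
    field_simp

/-- The distribution of the roots `8` and `9` above the root `10`. -/
theorem ten_eight (hψ : ψ.IsPrimitive) (h3 : (3 : F) = 0) (hc : cc ρ ψ = 1)
    (hX : ∀ l : F, l ≠ 0 → wt ρ ψ [9, 11] [(10, l)] ≤ eig ρ ψ (xr 8) 0) {j l : F} (hj : j ≠ 0) (hl : l ≠ 0) :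
    finrank ℂ (wt ρ ψ [11] [(8, j), (10, l)]) = Fintype.card F - 1 := by
  have h1 : ∀ k : F, k ≠ 0 → finrank ℂ (wt ρ ψ [11] [(9, k), (8, j), (10, l)]) = 1 := fun k hk => by
    rw [wt_swap]
    refine Nat.eq_of_mul_eq_mul_left (Fintype.card_pos (α := F)) ?_
    rw [← split_eight hψ h3 hk (ks := [9, 10]) rfl (by simp) (by decide +kernel) (by decide +kernel) j,
      ten_nine hψ h3 hl hk, hc]
  rw [split_const hψ (cast3 h3) (ks := [8, 10]) 9 (by decide +kernel) rfl h1, mul_one]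
  have h0 : wt ρ ψ [9, 11] [(8, j), (10, l)] = ⊥ := (Submodule.eq_bot_iff _).2 fun v hv => by
    by_contra hv0
    exact hj (eig_unique hψ hv0 (wt_L hv (by simp))
      (hX l hl (wt_mono (fun _ h => h) (by simp +contextual) hv)))
  rw [h0, finrank_bot, zero_add]

/-- The relation between the roots `8` and `9`. -/
theorem eight_nine (hψ : ψ.IsPrimitive) (h3 : (3 : F) = 0) (hc : cc ρ ψ = 1)
    (hX : ∀ l : F, l ≠ 0 → wt ρ ψ [9, 11] [(10, l)] ≤ eig ρ ψ (xr 8) 0) {j k : F} (hj : j ≠ 0) (hk : k ≠ 0) :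
    finrank ℂ (wt ρ ψ [10, 11] [(8, j)]) + (Fintype.card F - 1) * (Fintype.card F - 1) =
      finrank ℂ (wt ρ ψ [10, 11] [(9, k)]) + (Fintype.card F - 1) * Fintype.card F := by
  have e8 : ∀ j : F, j ≠ 0 → finrank ℂ (wt ρ ψ [11] [(8, j)]) =
      finrank ℂ (wt ρ ψ [10, 11] [(8, j)]) + (Fintype.card F - 1) * (Fintype.card F - 1) := fun j hj =>
    split_const hψ (cast3 h3) (ks := [8]) 10 (by decide +kernel) rfl fun l hl => by
      rw [wt_swap, ten_eight hψ h3 hc hX hj hl]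
  have e9 : ∀ k : F, k ≠ 0 → finrank ℂ (wt ρ ψ [11] [(9, k)]) =
      finrank ℂ (wt ρ ψ [10, 11] [(9, k)]) + (Fintype.card F - 1) * Fintype.card F := fun k hk =>
    split_const hψ (cast3 h3) (ks := [9]) 10 (by decide +kernel) rfl fun l hl => by
      rw [wt_swap, ten_nine hψ h3 hl hk, hc, mul_one]
  have k0 : (TG).refl 0 8 = 9 ∧ (TG).refl 0 9 = 8 := by decide +kernel
  have h8 : ((TG).eta 0 8 : F) ≠ 0 := eta_ne (by norm_num) (by norm_num)
  have h9 : ((TG).eta 0 9 : F) ≠ 0 := eta_ne (by norm_num) (by norm_num)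
  have le89 : ∀ j : F, j ≠ 0 → finrank ℂ (wt ρ ψ [11] [(8, j)]) ≤
      finrank ℂ (wt ρ ψ [11] [(9, j / ((TG).eta 0 8 : F))]) := fun j _ =>
    finrank_nG (i := 0) (by norm_num) (by rfl) (by simp) (by decide +kernel) (by simp [k0.1])
  have le98 : ∀ k : F, k ≠ 0 → finrank ℂ (wt ρ ψ [11] [(9, k)]) ≤
      finrank ℂ (wt ρ ψ [11] [(8, k / ((TG).eta 0 9 : F))]) := fun k _ =>
    finrank_nG (i := 0) (by norm_num) (by rfl) (by simp) (by decide +kernel) (by simp [k0.2])
  have s8 : ∀ a b : F, a ≠ 0 → b ≠ 0 →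
      finrank ℂ (wt ρ ψ [11] [(8, a)]) = finrank ℂ (wt ρ ψ [11] [(8, b)]) := fun a b ha hb =>
    finrank_scale (d := 6) (by decide +kernel) (by rfl) (by simp) ha hb
  have s9 : ∀ a b : F, a ≠ 0 → b ≠ 0 →
      finrank ℂ (wt ρ ψ [11] [(9, a)]) = finrank ℂ (wt ρ ψ [11] [(9, b)]) := fun a b ha hb =>
    finrank_scale (d := 11) (by decide +kernel) (by rfl) (by simp) ha hb
  rw [← e8 j hj, ← e9 k hk]
  exact le_antisymm ((le89 j hj).trans (s9 _ _ (div_ne_zero hj h8) hk).le)
    ((le98 k hk).trans (s8 _ _ (div_ne_zero hk h9) hj).le)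

/-- The degree in characteristic three is at least two less than the bound to be proved. -/
theorem bound_three [ρ.IsIrreducible] (hk : 2 ≤ finrank ℂ V) (hψ : ψ.IsPrimitive) (h3 : (3 : F) = 0)
    (h9 : 9 ≤ Fintype.card F) : Fintype.card F ^ 4 + Fintype.card F ^ 2 ≤ finrank ℂ V + 2 := by
  classical
  have hd := decomp (ρ := ρ) hψ
  rw [mw_three hψ h3] at hd
  have hcp := cc_pos (ρ := ρ) hk hψ h3 (by omega)
  by_cases hbig : 2 ≤ cc ρ ψ ∨ 4 ≤ c0 ρ ψ
  · generalize Fintype.card F = q at *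
    obtain ⟨p, rfl⟩ : ∃ p, q = p + 9 := ⟨q - 9, by omega⟩
    have hmw : (p + 9) * (p + 9) + 3 ≤ c0 ρ ψ + ((p + 9) * (p + 9) - 1) * cc ρ ψ := by
      have h81 : 81 ≤ (p + 9) * (p + 9) := Nat.mul_le_mul (by omega) (by omega)
      rcases hbig with h | h
      · have := Nat.mul_le_mul_left ((p + 9) * (p + 9) - 1) h
        omega
      · have := Nat.mul_le_mul_left ((p + 9) * (p + 9) - 1) (Nat.one_le_iff_ne_zero.2 hcp)
        omega
    have h1 := Nat.mul_le_mul_left ((p + 9) * (p + 9) - 1) hmw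
    rw [show (p + 9) * (p + 9) - 1 = p * p + 18 * p + 80 by
      rw [show (p + 9) * (p + 9) = p * p + 18 * p + 81 by ring]; rfl] at hd h1
    nlinarith
  rw [not_or] at hbig
  have hc : cc ρ ψ = 1 := by omega
  obtain ⟨hc0, hX'⟩ := c0_eq hψ h3 h9 hc (by omega)
  have hX := fun l hl => (hX' l hl).1
  rw [hc, hc0, mul_one] at hd
  set q := Fintype.card F with hq
  -- the part where the root 9 acts nontrivially
  let H : F → ℕ := fun k => finrank ℂ (wt ρ ψ [10, 11] [(8, (0 : F)), (9, k)])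
  have hH : ∀ k : F, k ≠ 0 → ∀ j : F, finrank ℂ (wt ρ ψ [10, 11] [(8, j), (9, k)]) = H k := fun k hk j =>
    Nat.eq_of_mul_eq_mul_left Fintype.card_pos
      ((split_eight hψ h3 hk (ks := [9]) rfl (by simp) (by decide +kernel) (by decide +kernel) j).symm.trans
        (split_eight hψ h3 hk (ks := [9]) rfl (by simp) (by decide +kernel) (by decide +kernel) 0))
  have hE9 : ∀ k : F, k ≠ 0 → finrank ℂ (wt ρ ψ [10, 11] [(9, k)]) = q * H k := fun k hk =>
    split_eight hψ h3 hk (ks := [9]) rfl (by simp) (by decide +kernel) (by decide +kernel) 0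
  have hHc : ∀ k : F, k ≠ 0 → H k = H 1 := fun k hk => Nat.eq_of_mul_eq_mul_left Fintype.card_pos (by
    rw [← hE9 k hk, ← hE9 1 one_ne_zero]
    have := eight_nine (j := (1 : F)) hψ h3 hc hX one_ne_zero hk
    have := eight_nine (j := (1 : F)) (k := (1 : F)) hψ h3 hc hX one_ne_zero one_ne_zero
    omega)
  have hA : ∀ j : F, j ≠ 0 → finrank ℂ (wt ρ ψ [9, 10, 11] [(8, j)]) + 1 = H 1 + q := by
    intro j hj
    have h := eight_nine (k := (1 : F)) hψ h3 hc hX hj one_ne_zero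
    rw [hE9 1 one_ne_zero, split_const hψ (cast3 h3) (ks := [8]) 9 (by decide +kernel) rfl fun k hk =>
      (wt_swap (ρ := ρ) (ψ := ψ) (Z := [10, 11]) ▸ (hH k hk j).trans (hHc k hk) :
        finrank ℂ (wt ρ ψ [10, 11] [(9, k), (8, j)]) = H 1)] at h
    obtain ⟨p, hp⟩ : ∃ p, q = p + 1 := ⟨q - 1, by omega⟩
    rw [← hq, hp, Nat.add_sub_cancel, add_one_mul p (H 1), mul_add_one] at h
    omega
  have hA6 : ∀ j : F, j ≠ 0 → finrank ℂ (wt ρ ψ [9, 10, 11] [(8, j)]) =
      q * finrank ℂ (wt ρ ψ [6, 9, 10, 11] [(8, j)]) := by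
    intro j hj
    rw [split_trans hψ (cast3 h3) (ks := [8]) 6 (by decide +kernel) rfl (fun a b => ?_) 0, wt_zero_cons]
    refine ⟨xr 7 ((b - a) / j), fun v hv => ?_⟩
    have hv' : v ∈ wt ρ ψ [9, 10, 11] [(8, j)] := wt_mono (fun _ h => h) (by simp +contextual) hv
    rw [wt_cons]
    refine ⟨pres_mem (cast3 h3) (ks := [8]) (by decide +kernel) rfl hv' _, ?_⟩
    have := shift (ρ := ρ) (ψ := ψ) (r := 7) (s := 6) (by norm_num) (by norm_num) (by decide +kernel)
      ((b - a) / j) (fun c => if c = 8 then j else 0) (a := a) (β := b - a) (v := v) (fun c hc => ?_)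
      (wt_L hv (by simp)) (fun u => ?_)
    · rwa [add_sub_cancel] at this
    · rw [ct_7_6] at hc
      simp only [List.mem_cons, List.not_mem_nil, or_false] at hc
      right
      rcases hc with rfl | rfl | rfl | rfl
      · simpa using wt_L hv' (s := 8) (a := j) (by simp)
      all_goals simpa using wt_Z hv' (by simp)
    · simp [ct_7_6]
      field_simp
  -- the decomposition of the vectors fixed by the roots 10, 11
  have hE : finrank ℂ (wt ρ ψ [10, 11] []) = finrank ℂ (wt ρ ψ [9, 10, 11] []) + (q - 1) * (q * H 1) :=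
    split_const hψ (cast3 h3) (ks := []) 9 (by decide +kernel) rfl fun k hk => by rw [hE9 k hk, hHc k hk]
  have hE' : finrank ℂ (wt ρ ψ [9, 10, 11] []) = finrank ℂ (wt ρ ψ [8, 9, 10, 11] []) +
      (q - 1) * (H 1 + q - 1) :=
    split_const hψ (cast3 h3) (ks := []) 8 (by decide +kernel) rfl fun j hj => by
      have := hA j hj; omega
  have hA1 := hA 1 one_ne_zero
  rw [hA6 1 one_ne_zero] at hA1
  rcases Nat.lt_or_ge (finrank ℂ (wt ρ ψ [6, 9, 10, 11] [(8, (1 : F))])) 2 with hA2 | hA2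
  swap
  · have h2q := Nat.mul_le_mul_left q hA2
    have hH1 : q + 1 ≤ H 1 := by omega
    rw [hE, hE'] at hd
    generalize H 1 = h at *
    obtain ⟨p, hp⟩ : ∃ p, q = p + 9 := ⟨q - 9, by omega⟩
    rw [hp] at hd hH1 ⊢
    obtain ⟨h', rfl⟩ : ∃ h', h = h' + (p + 10) := ⟨h - (p + 10), by omega⟩
    rw [show (p + 9) * (p + 9) - 1 = p * p + 18 * p + 80 by
        rw [show (p + 9) * (p + 9) = p * p + 18 * p + 81 by ring]; rfl,
      show p + 9 - 1 = p + 8 by omega, show h' + (p + 10) + (p + 9) - 1 = h' + 2 * p + 18 by omega] at hd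
    nlinarith
  have hAq : q * finrank ℂ (wt ρ ψ [6, 9, 10, 11] [(8, (1 : F))]) = q := by
    interval_cases h : finrank ℂ (wt ρ ψ [6, 9, 10, 11] [(8, (1 : F))]) <;> omega
  have hH1 : H 1 = 1 := by omega
  have hAall : ∀ j : F, j ≠ 0 → finrank ℂ (wt ρ ψ [9, 10, 11] [(8, j)]) = q := fun j hj => by
    have := hA j hj; omega
  -- the root 7 on the part fixed by 9, 10, 11
  have h87 : ∀ i j : F, i ≠ 0 → finrank ℂ (wt ρ ψ [9, 10, 11] [(7, j), (8, i)]) = 1 := by
    intro i j hi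
    refine (Nat.eq_of_mul_eq_mul_left (Fintype.card_pos (α := F)) ?_).symm
    rw [mul_one, ← hq]
    refine (hAall i hi).symm.trans (split_trans hψ (cast3 h3) (Z := [9, 10, 11]) (L := [(8, i)]) (ks := [8]) 7 (by decide +kernel) rfl (fun a b => ?_) j)
    refine ⟨xr 6 ((a - b) / i), fun v hv => ?_⟩
    have hv' : v ∈ wt ρ ψ [9, 10, 11] [(8, i)] := wt_mono (fun _ h => h) (by simp +contextual) hv
    rw [wt_cons]
    refine ⟨pres_mem (cast3 h3) (ks := [8]) (by decide +kernel) rfl hv' _, ?_⟩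
    have := shift (ρ := ρ) (ψ := ψ) (r := 6) (s := 7) (by norm_num) (by norm_num) (by decide +kernel)
      ((a - b) / i) (fun c => if c = 8 then i else 0) (a := a) (β := b - a) (v := v) (fun c hc => ?_)
      (wt_L hv (by simp)) (fun u => ?_)
    · rwa [add_sub_cancel] at this
    · rw [ct_6_7] at hc
      simp only [List.mem_cons, List.not_mem_nil, or_false] at hc
      right
      rcases hc with rfl | rfl | rfl | rfl
      · simpa using wt_L hv' (s := 8) (a := i) (by simp)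
      all_goals simpa using wt_Z hv' (by simp)
    · simp [ct_6_7]
      field_simp
      ring
  have h7line : ∀ j : F, j ≠ 0 → finrank ℂ (wt ρ ψ [8, 9, 10, 11] [(7, j)]) = 1 := by
    intro j hj
    have he : ∀ r, r < 12 → ((TG).eta 1 r : F) ≠ 0 := fun r hr => eta_ne (by norm_num) hr
    have h7 : finrank ℂ (wt ρ ψ [9, 10, 11] [(7, j)]) = q := by
      refine le_antisymm ?_ ?_
      · refine le_trans (finrank_nG (i := 1) (Z' := [9, 10, 11]) (L' := [(8, j / ((TG).eta 1 7 : F))]) (by norm_num)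
          (by rfl) (by simp) (by decide +kernel) (by simp [refl_facts.2.1]))
          (hAall _ (div_ne_zero hj (he 7 (by norm_num)))).le
      · refine (hAall (j * ((TG).eta 1 8 : F)) (mul_ne_zero hj (he 8 (by norm_num)))).ge.trans
          (finrank_nG (i := 1) (by norm_num) (by rfl) (by simp) (by decide +kernel)
            (by simp [refl_facts.1, he 8]))
    rw [split_const hψ (cast3 h3) (ks := [7]) 8 (by decide +kernel) rfl (e := 1) fun i hi => by
      rw [wt_swap, h87 i j hi]] at h7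
    rw [← hq, mul_one] at h7
    omega
  have hE00 : finrank ℂ (wt ρ ψ [8, 9, 10, 11] []) =
      finrank ℂ (wt ρ ψ [7, 8, 9, 10, 11] []) + (q - 1) * 1 :=
    split_const hψ (cast3 h3) (ks := []) 7 (by decide +kernel) rfl h7line
  have h76 : ∀ j : F, j ≠ 0 → wt ρ ψ [8, 9, 10, 11] [(7, j)] ≤ eig ρ ψ (xr 6) 0 := by
    intro j hj
    have hp : (TG).pair 11 7 = 0 ∧ (TG).pair 11 6 = 1 := by decide +kernel
    obtain ⟨c, hc'⟩ := exists_pow_ne (F := F) one_ne_zero (by omega)
    exact line_fixed (d := 11) hψ (cast3 h3) (ks := [7]) (h7line j hj) (by decide +kernel) rfl (by rfl) (by rfl)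
      (by simp [hp.1]) ⟨c, by simpa [hp.2] using hc'⟩
  have hR : q - 1 ≤ finrank ℂ (wt ρ ψ [7, 8, 9, 10, 11] []) := by
    have hst : Stable ρ (xr 6) (wt ρ ψ [7, 8, 9, 10, 11] []) :=
      stable_of_pres (cast3 h3) (ks := []) (by decide +kernel) rfl
    have := card_mul_le hψ hst ((Finset.univ : Finset F).erase 0) (d := 1) fun a ha => ?_
    · rwa [card_erase, mul_one] at this
    have ha0 := Finset.ne_of_mem_erase ha
    have he : ((TG).eta 0 10 : F) ≠ 0 := eta_ne (by norm_num) (by norm_num)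
    have k : (TG).refl 0 10 = 6 := by decide +kernel
    have h1 : 1 ≤ finrank ℂ (wt ρ ψ [8, 9, 10, 11] [(6, a)]) := by
      rw [← (hX' (a * ((TG).eta 0 10 : F)) (mul_ne_zero ha0 he)).2]
      exact finrank_nG (i := 0) (by norm_num) (by rfl) (by simp) (by decide +kernel) (by simp [k, he])
    refine h1.trans (Submodule.finrank_mono fun v hv => ⟨?_, wt_L hv (by simp)⟩)
    have h7 : wt ρ ψ [8, 9, 10, 11] [(6, a)] ≤ eig ρ ψ (xr 7) 0 :=
      le_eig_zero hψ (stable_of_pres (cast3 h3) (ks := [6]) (by decide +kernel) rfl) fun j hj =>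
        (Submodule.eq_bot_iff _).2 fun w hw => by
          by_contra hw0
          exact ha0 (eig_unique hψ hw0 (wt_L hw.1 (by simp)) (h76 j hj
            (mem_wt.2 ⟨hw.1.1, by simpa using hw.2⟩)))
    exact mem_wt.2 ⟨List.forall_mem_cons.2 ⟨h7 hv, hv.1⟩, by simp⟩
  rw [hE, hE', hE00, hH1] at hd
  generalize finrank ℂ (wt ρ ψ [7, 8, 9, 10, 11] []) = R at *
  obtain ⟨p, hp⟩ : ∃ p, q = p + 9 := ⟨q - 9, by omega⟩
  rw [hp] at hd hR ⊢
  rw [show (p + 9) * (p + 9) - 1 = p * p + 18 * p + 80 by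
      rw [show (p + 9) * (p + 9) = p * p + 18 * p + 81 by ring]; rfl,
    show p + 9 - 1 = p + 8 by omega, show 1 + (p + 9) - 1 = p + 9 by omega] at hd
  rw [show p + 9 - 1 = p + 8 by omega] at hR
  nlinarith

end CfsgLib.KnownB.MinDegG2
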